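import Mathlib

/-!
The field with four elements and the action of `Sp₄(4)` on quadratic forms with a given polar form.
-/

set_option autoImplicit false

namespace CfsgLib.HePres

/-- The field with four elements, by codes. -/
structure K4 where
  /-- The code. -/
  code : Fin 4

namespace K4

instance : DecidableEq K4 := fun a b =>
  decidable_of_iff (a.code = b.code) ⟨fun h => by cases a; cases b; cases h; rfl, fun h => h ▸ rfl⟩

/-- Codes. -/
def equivFin : K4 ≃ Fin 4 := ⟨code, mk, fun _ => rfl, fun _ => rfl⟩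

instance : Fintype K4 := Fintype.ofEquiv _ equivFin.symm

/-- The multiplication table. -/
def mulTab : List ℕ := [0, 0, 0, 0, 0, 1, 2, 3, 0, 2, 3, 1, 0, 3, 1, 2]

/-- Addition. -/
def add' (a b : K4) : K4 := ⟨⟨(a.code.val ^^^ b.code.val) % 4, Nat.mod_lt _ (by norm_num)⟩⟩

/-- Multiplication. -/
def mul' (a b : K4) : K4 :=
  ⟨⟨mulTab.getD (4 * a.code.val + b.code.val) 0 % 4, Nat.mod_lt _ (by norm_num)⟩⟩

instance : Zero K4 := ⟨⟨0⟩⟩
instance : One K4 := ⟨⟨1⟩⟩
instance : Add K4 := ⟨add'⟩
instance : Mul K4 := ⟨mul'⟩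
instance : Neg K4 := ⟨id⟩
instance : Inv K4 := ⟨fun a => a * a⟩

theorem add_assoc' : ∀ a b c : K4, a + b + c = a + (b + c) := by decide +kernel
theorem mul_assoc' : ∀ a b c : K4, a * b * c = a * (b * c) := by decide +kernel
theorem left_distrib' : ∀ a b c : K4, a * (b + c) = a * b + a * c := by decide +kernel
theorem zero_add' : ∀ a : K4, 0 + a = a := by decide +kernel
theorem add_comm' : ∀ a b : K4, a + b = b + a := by decide +kernel
theorem neg_add' : ∀ a : K4, -a + a = 0 := by decide +kernel
theorem mul_comm' : ∀ a b : K4, a * b = b * a := by decide +kernel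
theorem one_mul' : ∀ a : K4, 1 * a = a := by decide +kernel
theorem zero_mul' : ∀ a : K4, 0 * a = 0 := by decide +kernel
theorem mul_inv' : ∀ a : K4, a ≠ 0 → a * a⁻¹ = 1 := by decide +kernel

instance : CommRing K4 where
  add_assoc := add_assoc'
  zero_add := zero_add'
  add_zero a := by rw [add_comm', zero_add']
  add_comm := add_comm'
  neg_add_cancel := neg_add'
  nsmul := nsmulRec
  zsmul := zsmulRec
  left_distrib := left_distrib'
  right_distrib a b c := by rw [mul_comm', left_distrib', mul_comm' a c, mul_comm' b c]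
  zero_mul := zero_mul'
  mul_zero a := by rw [mul_comm', zero_mul']
  mul_assoc := mul_assoc'
  one_mul := one_mul'
  mul_one a := by rw [mul_comm', one_mul']
  mul_comm := mul_comm'

instance : Field K4 where
  exists_pair_ne := ⟨0, 1, by decide⟩
  mul_inv_cancel := mul_inv'
  inv_zero := by decide
  nnqsmul := _
  nnqsmul_def := fun _ _ => rfl
  qsmul := _
  qsmul_def := fun _ _ => rfl

theorem card_eq : Fintype.card K4 = 4 := by
  rw [Fintype.card_congr equivFin, Fintype.card_fin]

theorem two_eq_zero : (2 : K4) = 0 := by decide +kernel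

end K4

open Matrix

/-- the index set -/
abbrev I4 : Type := Fin 2 ⊕ Fin 2

/-- `Sp₄(4)` -/
abbrev Sp44 : Type := symplecticGroup (Fin 2) K4

/-- the quadratic form with diagonal `a` -/
def qf (a v : I4 → K4) : K4 :=
  v (.inl 0) * v (.inr 0) + v (.inl 1) * v (.inr 1) +
    (a (.inl 0) * v (.inl 0) ^ 2 + a (.inl 1) * v (.inl 1) ^ 2 +
      a (.inr 0) * v (.inr 0) ^ 2 + a (.inr 1) * v (.inr 1) ^ 2)

/-- the diagonal of `qf a` moved by a matrix -/
def pull (M : Matrix I4 I4 K4) (a : I4 → K4) : I4 → K4 := fun i => qf a fun r => M r i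

theorem qf_pull {M : Matrix I4 I4 K4} (hM : M ∈ symplecticGroup (Fin 2) K4) (a v : I4 → K4) :
    qf (pull M a) v = qf a (M *ᵥ v) := by
  rw [SymplecticGroup.mem_iff'] at hM
  have e : ∀ i j, (Mᵀ * J (Fin 2) K4 * M) i j = J (Fin 2) K4 i j := fun i j => by rw [hM]
  have e01 := e (.inl 0) (.inl 1)
  have e02 := e (.inl 0) (.inr 0)
  have e03 := e (.inl 0) (.inr 1)
  have e12 := e (.inl 1) (.inr 0)
  have e13 := e (.inl 1) (.inr 1)
  have e23 := e (.inr 0) (.inr 1)
  simp [Matrix.mul_apply, Fintype.sum_sum_type, Fin.sum_univ_two, J, Matrix.fromBlocks,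
    Matrix.transpose_apply, Matrix.one_apply] at e01 e02 e03 e12 e13 e23
  have : CharP K4 2 := CharTwo.of_one_ne_zero_of_two_eq_zero one_ne_zero K4.two_eq_zero
  simp only [CharTwo.neg_eq] at e01 e02 e03 e12 e13 e23
  simp only [qf, pull, mulVec, dotProduct, Fintype.sum_sum_type, Fin.sum_univ_two]
  simp only [CharTwo.add_sq, mul_pow]
  linear_combination (norm := ring_nf)
    -(v (.inl 0) * v (.inl 1)) * e01 - v (.inl 0) * v (.inr 0) * e02 -
      v (.inl 0) * v (.inr 1) * e03 - v (.inl 1) * v (.inr 0) * e12 -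
      v (.inl 1) * v (.inr 1) * e13 - v (.inr 0) * v (.inr 1) * e23

/-- the action on diagonals -/
def actQ (s : Sp44) (a : I4 → K4) : I4 → K4 := pull ((s⁻¹ : Sp44) : Matrix I4 I4 K4) a

theorem actQ_mul (s t : Sp44) (a : I4 → K4) : actQ (s * t) a = actQ s (actQ t a) := by
  funext i
  simp only [actQ, pull]
  rw [qf_pull (t⁻¹).2]
  congr 1
  funext r
  simp only [_root_.mul_inv_rev, Submonoid.coe_mul, Matrix.mul_apply, Matrix.mulVec, dotProduct]

theorem actQ_one (a : I4 → K4) : actQ 1 a = a := by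
  funext i
  simp only [actQ, pull, qf, inv_one, OneMemClass.coe_one, Matrix.one_apply]
  fin_cases i <;> simp

theorem actQ_inv {s : Sp44} {a b : I4 → K4} (h : actQ s a = b) : actQ s⁻¹ b = a := by
  rw [← h, ← actQ_mul, inv_mul_cancel, actQ_one]

theorem sq_cases : ∀ w : K4, w ^ 2 = 0 → w = 0 := by decide +kernel

theorem sq_one_cases : ∀ w : K4, w ^ 2 = 1 → w = 1 := by decide +kernel

theorem diff_cases : ∀ x y : K4, x ≠ y → ∀ z : K4, x * z = y * z → z = 0 := by decide +kernel

/-- Fixing enough diagonals means being trivial. -/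
theorem eq_one_of_fix {s : Sp44} (S : Set (I4 → K4))
    (hS : ∀ k, ∃ a ∈ S, ∃ b ∈ S, a k ≠ b k ∧ ∀ j, j ≠ k → a j = b j)
    (h : ∀ a ∈ S, actQ s a = a) : s = 1 := by
  have key : ∀ i r, ((s⁻¹ : Sp44) : Matrix I4 I4 K4) r i = (1 : Matrix I4 I4 K4) r i := by
    intro i k
    obtain ⟨a, ha, b, hb, hne, heq⟩ := hS k
    set w := fun r => ((s⁻¹ : Sp44) : Matrix I4 I4 K4) r i
    have ea : qf a w = a i := congrFun (h a ha) i
    have eb : qf b w = b i := congrFun (h b hb) i
    have hd : (a k + b k) * w k ^ 2 = a i + b i := by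
      have h2 := K4.two_eq_zero
      rw [← ea, ← eb]
      simp only [qf]
      fin_cases k <;>
        · have h0 := heq (.inl 0)
          have h1 := heq (.inl 1)
          have h3 := heq (.inr 0)
          have h4 := heq (.inr 1)
          simp at h0 h1 h3 h4 hne ⊢
          grobner
    have hk : a k + b k ≠ 0 := fun e => hne (by linear_combination e - b k * K4.two_eq_zero)
    show w k = _
    rw [Matrix.one_apply]
    by_cases hik : k = i
    · subst hik
      rw [if_pos rfl]
      exact sq_one_cases _ (mul_left_cancel₀ hk (by rw [hd, mul_one]))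
    · rw [if_neg hik]
      have : a i + b i = 0 := by rw [heq i (Ne.symm hik)]; linear_combination b i * K4.two_eq_zero
      rw [this, mul_eq_zero] at hd
      exact sq_cases _ (hd.resolve_left hk)
  have : s⁻¹ = 1 := Subtype.ext (Matrix.ext fun r i => key i r)
  exact inv_eq_one.mp this

end CfsgLib.HePres
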