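import Cfsg.Agent.Lib.HePres.DataB_defs
import Cfsg.Agent.Lib.HePres.DataB_facts
import Cfsg.Agent.Lib.HePres.DataB_refs
import Cfsg.Agent.Lib.HePres.DataB_tab
import Cfsg.Agent.Lib.HePres.DataB_nd
import Cfsg.Agent.Lib.HePres.DataB_edge
import Cfsg.Agent.Lib.HePres.DataB_img

/-!
Coset enumeration data: 49980 cosets, 50418 nodes, 177679 facts.
-/

set_option autoImplicit false
set_option linter.style.longLine false

namespace CfsgLib.HePres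
open CfsgLib.CosetEnum

/-- the certificate -/
noncomputable def certB : Cert where
  K := 7
  invs := [0, 1, 2, 3, 4, 5, 6]
  rels := [[0, 0],
    [0, 1, 0, 1, 0, 1, 0, 1],
    [0, 2, 0, 2, 0, 2],
    [0, 3, 0, 3],
    [0, 4, 0, 4],
    [0, 5, 0, 5],
    [0, 6, 0, 6],
    [1, 1],
    [1, 2, 1, 2],
    [1, 3, 1, 3],
    [1, 4, 1, 4],
    [1, 5, 1, 5],
    [1, 6, 1, 6],
    [2, 2],
    [2, 3, 2, 3, 2, 3, 2, 3, 2, 3, 2, 3, 2, 3, 2, 3, 2, 3, 2, 3],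
    [2, 4, 2, 4],
    [2, 5, 2, 5],
    [2, 6, 2, 6],
    [3, 3],
    [3, 4, 3, 4, 3, 4],
    [3, 5, 3, 5, 3, 5],
    [3, 6, 3, 6, 3, 6],
    [4, 4],
    [4, 5, 4, 5],
    [4, 6, 4, 6],
    [5, 5],
    [5, 6, 5, 6, 5, 6, 5, 6],
    [6, 6],
    [4, 6, 5, 6, 5],
    [4, 2, 0, 1, 2, 0, 1, 2, 0, 1],
    [1, 3, 2, 3, 2, 3, 2, 3, 2, 3, 2],
    [2, 3, 5, 6, 2, 3, 5, 6, 2, 3, 5, 6, 2, 3, 5, 6]]
  subs := [[1],
    [2],
    [3],
    [4],
    [5],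
    [6]]
  N := 49980
  M := 50418
  F := 177679
  defs := certB_defs
  facts := certB_facts
  refs := certB_refs
  tab := certB_tab
  nd := certB_nd
  edge := certB_edge
  img := certB_img

end CfsgLib.HePres
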