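import Cfsg.Agent.Lib.CosetEnum.Use
import Cfsg.Agent.Lib.HePres.DataB

/-!
Kernel checks of coset enumeration data, in small chunks.
-/

set_option autoImplicit false
set_option maxHeartbeats 4000000
set_option Elab.async false

namespace CfsgLib.HePres
open CfsgLib.CosetEnum

theorem certB_step_11_32 : allUp certB.stepOK' 11 65536 = true := by decide +kernel
theorem certB_step_11_33 : allUp certB.stepOK' 11 67584 = true := by decide +kernel
theorem certB_step_11_34 : allUp certB.stepOK' 11 69632 = true := by decide +kernel
theorem certB_step_11_35 : allUp certB.stepOK' 11 71680 = true := by decide +kernel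
theorem certB_step_11_36 : allUp certB.stepOK' 11 73728 = true := by decide +kernel
theorem certB_step_11_37 : allUp certB.stepOK' 11 75776 = true := by decide +kernel
theorem certB_step_11_38 : allUp certB.stepOK' 11 77824 = true := by decide +kernel
theorem certB_step_11_39 : allUp certB.stepOK' 11 79872 = true := by decide +kernel
theorem certB_step_11_40 : allUp certB.stepOK' 11 81920 = true := by decide +kernel
theorem certB_step_11_41 : allUp certB.stepOK' 11 83968 = true := by decide +kernel
theorem certB_step_11_42 : allUp certB.stepOK' 11 86016 = true := by decide +kernel
theorem certB_step_11_43 : allUp certB.stepOK' 11 88064 = true := by decide +kernel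
theorem certB_step_11_44 : allUp certB.stepOK' 11 90112 = true := by decide +kernel
theorem certB_step_11_45 : allUp certB.stepOK' 11 92160 = true := by decide +kernel
theorem certB_step_11_46 : allUp certB.stepOK' 11 94208 = true := by decide +kernel
theorem certB_step_11_47 : allUp certB.stepOK' 11 96256 = true := by decide +kernel

end CfsgLib.HePres
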