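import Cfsg.Agent.Lib.CosetEnum.Use
import Cfsg.Agent.Lib.HePres.DataB

/-!
Kernel checks of coset enumeration data, in small chunks.
-/

set_option autoImplicit false
set_option maxHeartbeats 4000000
set_option Elab.async false

namespace CfsgLib.HePres
open CfsgLib.CosetEnum

theorem certB_step_11_48 : allUp certB.stepOK' 11 98304 = true := by decide +kernel
theorem certB_step_11_49 : allUp certB.stepOK' 11 100352 = true := by decide +kernel
theorem certB_step_11_50 : allUp certB.stepOK' 11 102400 = true := by decide +kernel
theorem certB_step_11_51 : allUp certB.stepOK' 11 104448 = true := by decide +kernel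
theorem certB_step_11_52 : allUp certB.stepOK' 11 106496 = true := by decide +kernel
theorem certB_step_11_53 : allUp certB.stepOK' 11 108544 = true := by decide +kernel
theorem certB_step_11_54 : allUp certB.stepOK' 11 110592 = true := by decide +kernel
theorem certB_step_11_55 : allUp certB.stepOK' 11 112640 = true := by decide +kernel
theorem certB_step_11_56 : allUp certB.stepOK' 11 114688 = true := by decide +kernel
theorem certB_step_11_57 : allUp certB.stepOK' 11 116736 = true := by decide +kernel
theorem certB_step_11_58 : allUp certB.stepOK' 11 118784 = true := by decide +kernel
theorem certB_step_11_59 : allUp certB.stepOK' 11 120832 = true := by decide +kernel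
theorem certB_step_11_60 : allUp certB.stepOK' 11 122880 = true := by decide +kernel
theorem certB_step_11_61 : allUp certB.stepOK' 11 124928 = true := by decide +kernel
theorem certB_step_11_62 : allUp certB.stepOK' 11 126976 = true := by decide +kernel
theorem certB_step_11_63 : allUp certB.stepOK' 11 129024 = true := by decide +kernel

end CfsgLib.HePres
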