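import Cfsg.Agent.Lib.CosetEnum.Use
import Cfsg.Agent.Lib.HePres.DataB

/-!
Kernel checks of coset enumeration data, in small chunks.
-/

set_option autoImplicit false
set_option maxHeartbeats 4000000
set_option Elab.async false

namespace CfsgLib.HePres
open CfsgLib.CosetEnum

theorem certB_step_11_64 : allUp certB.stepOK' 11 131072 = true := by decide +kernel
theorem certB_step_11_65 : allUp certB.stepOK' 11 133120 = true := by decide +kernel
theorem certB_step_11_66 : allUp certB.stepOK' 11 135168 = true := by decide +kernel
theorem certB_step_11_67 : allUp certB.stepOK' 11 137216 = true := by decide +kernel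
theorem certB_step_11_68 : allUp certB.stepOK' 11 139264 = true := by decide +kernel
theorem certB_step_11_69 : allUp certB.stepOK' 11 141312 = true := by decide +kernel
theorem certB_step_11_70 : allUp certB.stepOK' 11 143360 = true := by decide +kernel
theorem certB_step_11_71 : allUp certB.stepOK' 11 145408 = true := by decide +kernel
theorem certB_step_11_72 : allUp certB.stepOK' 11 147456 = true := by decide +kernel
theorem certB_step_11_73 : allUp certB.stepOK' 11 149504 = true := by decide +kernel
theorem certB_step_11_74 : allUp certB.stepOK' 11 151552 = true := by decide +kernel
theorem certB_step_11_75 : allUp certB.stepOK' 11 153600 = true := by decide +kernel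
theorem certB_step_11_76 : allUp certB.stepOK' 11 155648 = true := by decide +kernel
theorem certB_step_11_77 : allUp certB.stepOK' 11 157696 = true := by decide +kernel
theorem certB_step_11_78 : allUp certB.stepOK' 11 159744 = true := by decide +kernel
theorem certB_step_11_79 : allUp certB.stepOK' 11 161792 = true := by decide +kernel

end CfsgLib.HePres
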