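import Cfsg.Agent.Lib.CosetEnum.Use
import Cfsg.Agent.Lib.HePres.DataB

/-!
Kernel checks of coset enumeration data, in small chunks.
-/

set_option autoImplicit false
set_option maxHeartbeats 4000000
set_option Elab.async false

namespace CfsgLib.HePres
open CfsgLib.CosetEnum

theorem certB_step_11_80 : allUp certB.stepOK' 11 163840 = true := by decide +kernel
theorem certB_step_11_81 : allUp certB.stepOK' 11 165888 = true := by decide +kernel
theorem certB_step_11_82 : allUp certB.stepOK' 11 167936 = true := by decide +kernel
theorem certB_step_11_83 : allUp certB.stepOK' 11 169984 = true := by decide +kernel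
theorem certB_step_11_84 : allUp certB.stepOK' 11 172032 = true := by decide +kernel
theorem certB_step_11_85 : allUp certB.stepOK' 11 174080 = true := by decide +kernel
theorem certB_step_11_86 : allUp certB.stepOK' 11 176128 = true := by decide +kernel
theorem certB_step_11_87 : allUp certB.stepOK' 11 178176 = true := by decide +kernel
theorem certB_step_11_88 : allUp certB.stepOK' 11 180224 = true := by decide +kernel
theorem certB_step_11_89 : allUp certB.stepOK' 11 182272 = true := by decide +kernel
theorem certB_step_11_90 : allUp certB.stepOK' 11 184320 = true := by decide +kernel
theorem certB_step_11_91 : allUp certB.stepOK' 11 186368 = true := by decide +kernel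
theorem certB_step_11_92 : allUp certB.stepOK' 11 188416 = true := by decide +kernel
theorem certB_step_11_93 : allUp certB.stepOK' 11 190464 = true := by decide +kernel
theorem certB_step_11_94 : allUp certB.stepOK' 11 192512 = true := by decide +kernel
theorem certB_step_11_95 : allUp certB.stepOK' 11 194560 = true := by decide +kernel

end CfsgLib.HePres
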