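import Cfsg.Agent.Lib.CosetEnum.Use
import Cfsg.Agent.Lib.HePres.DataB

/-!
Kernel checks of coset enumeration data, in small chunks.
-/

set_option autoImplicit false
set_option maxHeartbeats 4000000
set_option Elab.async false

namespace CfsgLib.HePres
open CfsgLib.CosetEnum

theorem certB_step_11_96 : allUp certB.stepOK' 11 196608 = true := by decide +kernel
theorem certB_step_11_97 : allUp certB.stepOK' 11 198656 = true := by decide +kernel
theorem certB_step_11_98 : allUp certB.stepOK' 11 200704 = true := by decide +kernel
theorem certB_step_11_99 : allUp certB.stepOK' 11 202752 = true := by decide +kernel
theorem certB_step_11_100 : allUp certB.stepOK' 11 204800 = true := by decide +kernel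
theorem certB_step_11_101 : allUp certB.stepOK' 11 206848 = true := by decide +kernel
theorem certB_step_11_102 : allUp certB.stepOK' 11 208896 = true := by decide +kernel
theorem certB_step_11_103 : allUp certB.stepOK' 11 210944 = true := by decide +kernel
theorem certB_step_11_104 : allUp certB.stepOK' 11 212992 = true := by decide +kernel
theorem certB_step_11_105 : allUp certB.stepOK' 11 215040 = true := by decide +kernel
theorem certB_step_11_106 : allUp certB.stepOK' 11 217088 = true := by decide +kernel
theorem certB_step_11_107 : allUp certB.stepOK' 11 219136 = true := by decide +kernel
theorem certB_step_11_108 : allUp certB.stepOK' 11 221184 = true := by decide +kernel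
theorem certB_step_11_109 : allUp certB.stepOK' 11 223232 = true := by decide +kernel
theorem certB_step_11_110 : allUp certB.stepOK' 11 225280 = true := by decide +kernel
theorem certB_step_11_111 : allUp certB.stepOK' 11 227328 = true := by decide +kernel

end CfsgLib.HePres
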