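import Cfsg.Agent.Lib.CosetEnum.Use
import Cfsg.Agent.Lib.HePres.DataB

/-!
Kernel checks of coset enumeration data, in small chunks.
-/

set_option autoImplicit false
set_option maxHeartbeats 4000000
set_option Elab.async false

namespace CfsgLib.HePres
open CfsgLib.CosetEnum

theorem certB_step_11_112 : allUp certB.stepOK' 11 229376 = true := by decide +kernel
theorem certB_step_11_113 : allUp certB.stepOK' 11 231424 = true := by decide +kernel
theorem certB_step_11_114 : allUp certB.stepOK' 11 233472 = true := by decide +kernel
theorem certB_step_11_115 : allUp certB.stepOK' 11 235520 = true := by decide +kernel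
theorem certB_step_11_116 : allUp certB.stepOK' 11 237568 = true := by decide +kernel
theorem certB_step_11_117 : allUp certB.stepOK' 11 239616 = true := by decide +kernel
theorem certB_step_11_118 : allUp certB.stepOK' 11 241664 = true := by decide +kernel
theorem certB_step_11_119 : allUp certB.stepOK' 11 243712 = true := by decide +kernel
theorem certB_step_11_120 : allUp certB.stepOK' 11 245760 = true := by decide +kernel
theorem certB_step_11_121 : allUp certB.stepOK' 11 247808 = true := by decide +kernel
theorem certB_step_11_122 : allUp certB.stepOK' 11 249856 = true := by decide +kernel
theorem certB_step_11_123 : allUp certB.stepOK' 11 251904 = true := by decide +kernel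
theorem certB_step_11_124 : allUp certB.stepOK' 11 253952 = true := by decide +kernel
theorem certB_step_11_125 : allUp certB.stepOK' 11 256000 = true := by decide +kernel
theorem certB_step_11_126 : allUp certB.stepOK' 11 258048 = true := by decide +kernel
theorem certB_step_11_127 : allUp certB.stepOK' 11 260096 = true := by decide +kernel

end CfsgLib.HePres
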