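import Cfsg.Agent.Lib.CosetEnum.Merge
import Cfsg.Agent.Lib.HePres.CheckB_step0
import Cfsg.Agent.Lib.HePres.CheckB_step1
import Cfsg.Agent.Lib.HePres.CheckB_step2
import Cfsg.Agent.Lib.HePres.CheckB_step3
import Cfsg.Agent.Lib.HePres.CheckB_step4
import Cfsg.Agent.Lib.HePres.CheckB_step5
import Cfsg.Agent.Lib.HePres.CheckB_step6
import Cfsg.Agent.Lib.HePres.CheckB_step7
import Cfsg.Agent.Lib.HePres.CheckB_entry0
import Cfsg.Agent.Lib.HePres.CheckB_entry1
import Cfsg.Agent.Lib.HePres.CheckB_entry2
import Cfsg.Agent.Lib.HePres.CheckB_entry3

/-!
The checks of the certificate, combined.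
-/

set_option autoImplicit false

namespace CfsgLib.HePres
open CfsgLib.CosetEnum

theorem certB_step_12_0 : allUp certB.stepOK' 12 0 = true :=
  allUp_merge certB_step_11_0 certB_step_11_1
theorem certB_step_12_1 : allUp certB.stepOK' 12 4096 = true :=
  allUp_merge certB_step_11_2 certB_step_11_3
theorem certB_step_12_2 : allUp certB.stepOK' 12 8192 = true :=
  allUp_merge certB_step_11_4 certB_step_11_5
theorem certB_step_12_3 : allUp certB.stepOK' 12 12288 = true :=
  allUp_merge certB_step_11_6 certB_step_11_7
theorem certB_step_12_4 : allUp certB.stepOK' 12 16384 = true :=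
  allUp_merge certB_step_11_8 certB_step_11_9
theorem certB_step_12_5 : allUp certB.stepOK' 12 20480 = true :=
  allUp_merge certB_step_11_10 certB_step_11_11
theorem certB_step_12_6 : allUp certB.stepOK' 12 24576 = true :=
  allUp_merge certB_step_11_12 certB_step_11_13
theorem certB_step_12_7 : allUp certB.stepOK' 12 28672 = true :=
  allUp_merge certB_step_11_14 certB_step_11_15
theorem certB_step_12_8 : allUp certB.stepOK' 12 32768 = true :=
  allUp_merge certB_step_11_16 certB_step_11_17
theorem certB_step_12_9 : allUp certB.stepOK' 12 36864 = true :=
  allUp_merge certB_step_11_18 certB_step_11_19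
theorem certB_step_12_10 : allUp certB.stepOK' 12 40960 = true :=
  allUp_merge certB_step_11_20 certB_step_11_21
theorem certB_step_12_11 : allUp certB.stepOK' 12 45056 = true :=
  allUp_merge certB_step_11_22 certB_step_11_23
theorem certB_step_12_12 : allUp certB.stepOK' 12 49152 = true :=
  allUp_merge certB_step_11_24 certB_step_11_25
theorem certB_step_12_13 : allUp certB.stepOK' 12 53248 = true :=
  allUp_merge certB_step_11_26 certB_step_11_27
theorem certB_step_12_14 : allUp certB.stepOK' 12 57344 = true :=
  allUp_merge certB_step_11_28 certB_step_11_29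
theorem certB_step_12_15 : allUp certB.stepOK' 12 61440 = true :=
  allUp_merge certB_step_11_30 certB_step_11_31
theorem certB_step_12_16 : allUp certB.stepOK' 12 65536 = true :=
  allUp_merge certB_step_11_32 certB_step_11_33
theorem certB_step_12_17 : allUp certB.stepOK' 12 69632 = true :=
  allUp_merge certB_step_11_34 certB_step_11_35
theorem certB_step_12_18 : allUp certB.stepOK' 12 73728 = true :=
  allUp_merge certB_step_11_36 certB_step_11_37
theorem certB_step_12_19 : allUp certB.stepOK' 12 77824 = true :=
  allUp_merge certB_step_11_38 certB_step_11_39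
theorem certB_step_12_20 : allUp certB.stepOK' 12 81920 = true :=
  allUp_merge certB_step_11_40 certB_step_11_41
theorem certB_step_12_21 : allUp certB.stepOK' 12 86016 = true :=
  allUp_merge certB_step_11_42 certB_step_11_43
theorem certB_step_12_22 : allUp certB.stepOK' 12 90112 = true :=
  allUp_merge certB_step_11_44 certB_step_11_45
theorem certB_step_12_23 : allUp certB.stepOK' 12 94208 = true :=
  allUp_merge certB_step_11_46 certB_step_11_47
theorem certB_step_12_24 : allUp certB.stepOK' 12 98304 = true :=
  allUp_merge certB_step_11_48 certB_step_11_49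
theorem certB_step_12_25 : allUp certB.stepOK' 12 102400 = true :=
  allUp_merge certB_step_11_50 certB_step_11_51
theorem certB_step_12_26 : allUp certB.stepOK' 12 106496 = true :=
  allUp_merge certB_step_11_52 certB_step_11_53
theorem certB_step_12_27 : allUp certB.stepOK' 12 110592 = true :=
  allUp_merge certB_step_11_54 certB_step_11_55
theorem certB_step_12_28 : allUp certB.stepOK' 12 114688 = true :=
  allUp_merge certB_step_11_56 certB_step_11_57
theorem certB_step_12_29 : allUp certB.stepOK' 12 118784 = true :=
  allUp_merge certB_step_11_58 certB_step_11_59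
theorem certB_step_12_30 : allUp certB.stepOK' 12 122880 = true :=
  allUp_merge certB_step_11_60 certB_step_11_61
theorem certB_step_12_31 : allUp certB.stepOK' 12 126976 = true :=
  allUp_merge certB_step_11_62 certB_step_11_63
theorem certB_step_12_32 : allUp certB.stepOK' 12 131072 = true :=
  allUp_merge certB_step_11_64 certB_step_11_65
theorem certB_step_12_33 : allUp certB.stepOK' 12 135168 = true :=
  allUp_merge certB_step_11_66 certB_step_11_67
theorem certB_step_12_34 : allUp certB.stepOK' 12 139264 = true :=
  allUp_merge certB_step_11_68 certB_step_11_69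
theorem certB_step_12_35 : allUp certB.stepOK' 12 143360 = true :=
  allUp_merge certB_step_11_70 certB_step_11_71
theorem certB_step_12_36 : allUp certB.stepOK' 12 147456 = true :=
  allUp_merge certB_step_11_72 certB_step_11_73
theorem certB_step_12_37 : allUp certB.stepOK' 12 151552 = true :=
  allUp_merge certB_step_11_74 certB_step_11_75
theorem certB_step_12_38 : allUp certB.stepOK' 12 155648 = true :=
  allUp_merge certB_step_11_76 certB_step_11_77
theorem certB_step_12_39 : allUp certB.stepOK' 12 159744 = true :=
  allUp_merge certB_step_11_78 certB_step_11_79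
theorem certB_step_12_40 : allUp certB.stepOK' 12 163840 = true :=
  allUp_merge certB_step_11_80 certB_step_11_81
theorem certB_step_12_41 : allUp certB.stepOK' 12 167936 = true :=
  allUp_merge certB_step_11_82 certB_step_11_83
theorem certB_step_12_42 : allUp certB.stepOK' 12 172032 = true :=
  allUp_merge certB_step_11_84 certB_step_11_85
theorem certB_step_12_43 : allUp certB.stepOK' 12 176128 = true :=
  allUp_merge certB_step_11_86 certB_step_11_87
theorem certB_step_12_44 : allUp certB.stepOK' 12 180224 = true :=
  allUp_merge certB_step_11_88 certB_step_11_89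
theorem certB_step_12_45 : allUp certB.stepOK' 12 184320 = true :=
  allUp_merge certB_step_11_90 certB_step_11_91
theorem certB_step_12_46 : allUp certB.stepOK' 12 188416 = true :=
  allUp_merge certB_step_11_92 certB_step_11_93
theorem certB_step_12_47 : allUp certB.stepOK' 12 192512 = true :=
  allUp_merge certB_step_11_94 certB_step_11_95
theorem certB_step_12_48 : allUp certB.stepOK' 12 196608 = true :=
  allUp_merge certB_step_11_96 certB_step_11_97
theorem certB_step_12_49 : allUp certB.stepOK' 12 200704 = true :=
  allUp_merge certB_step_11_98 certB_step_11_99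
theorem certB_step_12_50 : allUp certB.stepOK' 12 204800 = true :=
  allUp_merge certB_step_11_100 certB_step_11_101
theorem certB_step_12_51 : allUp certB.stepOK' 12 208896 = true :=
  allUp_merge certB_step_11_102 certB_step_11_103
theorem certB_step_12_52 : allUp certB.stepOK' 12 212992 = true :=
  allUp_merge certB_step_11_104 certB_step_11_105
theorem certB_step_12_53 : allUp certB.stepOK' 12 217088 = true :=
  allUp_merge certB_step_11_106 certB_step_11_107
theorem certB_step_12_54 : allUp certB.stepOK' 12 221184 = true :=
  allUp_merge certB_step_11_108 certB_step_11_109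
theorem certB_step_12_55 : allUp certB.stepOK' 12 225280 = true :=
  allUp_merge certB_step_11_110 certB_step_11_111
theorem certB_step_12_56 : allUp certB.stepOK' 12 229376 = true :=
  allUp_merge certB_step_11_112 certB_step_11_113
theorem certB_step_12_57 : allUp certB.stepOK' 12 233472 = true :=
  allUp_merge certB_step_11_114 certB_step_11_115
theorem certB_step_12_58 : allUp certB.stepOK' 12 237568 = true :=
  allUp_merge certB_step_11_116 certB_step_11_117
theorem certB_step_12_59 : allUp certB.stepOK' 12 241664 = true :=
  allUp_merge certB_step_11_118 certB_step_11_119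
theorem certB_step_12_60 : allUp certB.stepOK' 12 245760 = true :=
  allUp_merge certB_step_11_120 certB_step_11_121
theorem certB_step_12_61 : allUp certB.stepOK' 12 249856 = true :=
  allUp_merge certB_step_11_122 certB_step_11_123
theorem certB_step_12_62 : allUp certB.stepOK' 12 253952 = true :=
  allUp_merge certB_step_11_124 certB_step_11_125
theorem certB_step_12_63 : allUp certB.stepOK' 12 258048 = true :=
  allUp_merge certB_step_11_126 certB_step_11_127
theorem certB_step_13_0 : allUp certB.stepOK' 13 0 = true :=
  allUp_merge certB_step_12_0 certB_step_12_1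
theorem certB_step_13_1 : allUp certB.stepOK' 13 8192 = true :=
  allUp_merge certB_step_12_2 certB_step_12_3
theorem certB_step_13_2 : allUp certB.stepOK' 13 16384 = true :=
  allUp_merge certB_step_12_4 certB_step_12_5
theorem certB_step_13_3 : allUp certB.stepOK' 13 24576 = true :=
  allUp_merge certB_step_12_6 certB_step_12_7
theorem certB_step_13_4 : allUp certB.stepOK' 13 32768 = true :=
  allUp_merge certB_step_12_8 certB_step_12_9
theorem certB_step_13_5 : allUp certB.stepOK' 13 40960 = true :=
  allUp_merge certB_step_12_10 certB_step_12_11
theorem certB_step_13_6 : allUp certB.stepOK' 13 49152 = true :=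
  allUp_merge certB_step_12_12 certB_step_12_13
theorem certB_step_13_7 : allUp certB.stepOK' 13 57344 = true :=
  allUp_merge certB_step_12_14 certB_step_12_15
theorem certB_step_13_8 : allUp certB.stepOK' 13 65536 = true :=
  allUp_merge certB_step_12_16 certB_step_12_17
theorem certB_step_13_9 : allUp certB.stepOK' 13 73728 = true :=
  allUp_merge certB_step_12_18 certB_step_12_19
theorem certB_step_13_10 : allUp certB.stepOK' 13 81920 = true :=
  allUp_merge certB_step_12_20 certB_step_12_21
theorem certB_step_13_11 : allUp certB.stepOK' 13 90112 = true :=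
  allUp_merge certB_step_12_22 certB_step_12_23
theorem certB_step_13_12 : allUp certB.stepOK' 13 98304 = true :=
  allUp_merge certB_step_12_24 certB_step_12_25
theorem certB_step_13_13 : allUp certB.stepOK' 13 106496 = true :=
  allUp_merge certB_step_12_26 certB_step_12_27
theorem certB_step_13_14 : allUp certB.stepOK' 13 114688 = true :=
  allUp_merge certB_step_12_28 certB_step_12_29
theorem certB_step_13_15 : allUp certB.stepOK' 13 122880 = true :=
  allUp_merge certB_step_12_30 certB_step_12_31
theorem certB_step_13_16 : allUp certB.stepOK' 13 131072 = true :=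
  allUp_merge certB_step_12_32 certB_step_12_33
theorem certB_step_13_17 : allUp certB.stepOK' 13 139264 = true :=
  allUp_merge certB_step_12_34 certB_step_12_35
theorem certB_step_13_18 : allUp certB.stepOK' 13 147456 = true :=
  allUp_merge certB_step_12_36 certB_step_12_37
theorem certB_step_13_19 : allUp certB.stepOK' 13 155648 = true :=
  allUp_merge certB_step_12_38 certB_step_12_39
theorem certB_step_13_20 : allUp certB.stepOK' 13 163840 = true :=
  allUp_merge certB_step_12_40 certB_step_12_41
theorem certB_step_13_21 : allUp certB.stepOK' 13 172032 = true :=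
  allUp_merge certB_step_12_42 certB_step_12_43
theorem certB_step_13_22 : allUp certB.stepOK' 13 180224 = true :=
  allUp_merge certB_step_12_44 certB_step_12_45
theorem certB_step_13_23 : allUp certB.stepOK' 13 188416 = true :=
  allUp_merge certB_step_12_46 certB_step_12_47
theorem certB_step_13_24 : allUp certB.stepOK' 13 196608 = true :=
  allUp_merge certB_step_12_48 certB_step_12_49
theorem certB_step_13_25 : allUp certB.stepOK' 13 204800 = true :=
  allUp_merge certB_step_12_50 certB_step_12_51
theorem certB_step_13_26 : allUp certB.stepOK' 13 212992 = true :=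
  allUp_merge certB_step_12_52 certB_step_12_53
theorem certB_step_13_27 : allUp certB.stepOK' 13 221184 = true :=
  allUp_merge certB_step_12_54 certB_step_12_55
theorem certB_step_13_28 : allUp certB.stepOK' 13 229376 = true :=
  allUp_merge certB_step_12_56 certB_step_12_57
theorem certB_step_13_29 : allUp certB.stepOK' 13 237568 = true :=
  allUp_merge certB_step_12_58 certB_step_12_59
theorem certB_step_13_30 : allUp certB.stepOK' 13 245760 = true :=
  allUp_merge certB_step_12_60 certB_step_12_61
theorem certB_step_13_31 : allUp certB.stepOK' 13 253952 = true :=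
  allUp_merge certB_step_12_62 certB_step_12_63
theorem certB_step_14_0 : allUp certB.stepOK' 14 0 = true :=
  allUp_merge certB_step_13_0 certB_step_13_1
theorem certB_step_14_1 : allUp certB.stepOK' 14 16384 = true :=
  allUp_merge certB_step_13_2 certB_step_13_3
theorem certB_step_14_2 : allUp certB.stepOK' 14 32768 = true :=
  allUp_merge certB_step_13_4 certB_step_13_5
theorem certB_step_14_3 : allUp certB.stepOK' 14 49152 = true :=
  allUp_merge certB_step_13_6 certB_step_13_7
theorem certB_step_14_4 : allUp certB.stepOK' 14 65536 = true :=
  allUp_merge certB_step_13_8 certB_step_13_9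
theorem certB_step_14_5 : allUp certB.stepOK' 14 81920 = true :=
  allUp_merge certB_step_13_10 certB_step_13_11
theorem certB_step_14_6 : allUp certB.stepOK' 14 98304 = true :=
  allUp_merge certB_step_13_12 certB_step_13_13
theorem certB_step_14_7 : allUp certB.stepOK' 14 114688 = true :=
  allUp_merge certB_step_13_14 certB_step_13_15
theorem certB_step_14_8 : allUp certB.stepOK' 14 131072 = true :=
  allUp_merge certB_step_13_16 certB_step_13_17
theorem certB_step_14_9 : allUp certB.stepOK' 14 147456 = true :=
  allUp_merge certB_step_13_18 certB_step_13_19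
theorem certB_step_14_10 : allUp certB.stepOK' 14 163840 = true :=
  allUp_merge certB_step_13_20 certB_step_13_21
theorem certB_step_14_11 : allUp certB.stepOK' 14 180224 = true :=
  allUp_merge certB_step_13_22 certB_step_13_23
theorem certB_step_14_12 : allUp certB.stepOK' 14 196608 = true :=
  allUp_merge certB_step_13_24 certB_step_13_25
theorem certB_step_14_13 : allUp certB.stepOK' 14 212992 = true :=
  allUp_merge certB_step_13_26 certB_step_13_27
theorem certB_step_14_14 : allUp certB.stepOK' 14 229376 = true :=
  allUp_merge certB_step_13_28 certB_step_13_29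
theorem certB_step_14_15 : allUp certB.stepOK' 14 245760 = true :=
  allUp_merge certB_step_13_30 certB_step_13_31
theorem certB_step_15_0 : allUp certB.stepOK' 15 0 = true :=
  allUp_merge certB_step_14_0 certB_step_14_1
theorem certB_step_15_1 : allUp certB.stepOK' 15 32768 = true :=
  allUp_merge certB_step_14_2 certB_step_14_3
theorem certB_step_15_2 : allUp certB.stepOK' 15 65536 = true :=
  allUp_merge certB_step_14_4 certB_step_14_5
theorem certB_step_15_3 : allUp certB.stepOK' 15 98304 = true :=
  allUp_merge certB_step_14_6 certB_step_14_7
theorem certB_step_15_4 : allUp certB.stepOK' 15 131072 = true :=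
  allUp_merge certB_step_14_8 certB_step_14_9
theorem certB_step_15_5 : allUp certB.stepOK' 15 163840 = true :=
  allUp_merge certB_step_14_10 certB_step_14_11
theorem certB_step_15_6 : allUp certB.stepOK' 15 196608 = true :=
  allUp_merge certB_step_14_12 certB_step_14_13
theorem certB_step_15_7 : allUp certB.stepOK' 15 229376 = true :=
  allUp_merge certB_step_14_14 certB_step_14_15
theorem certB_step_16_0 : allUp certB.stepOK' 16 0 = true :=
  allUp_merge certB_step_15_0 certB_step_15_1
theorem certB_step_16_1 : allUp certB.stepOK' 16 65536 = true :=
  allUp_merge certB_step_15_2 certB_step_15_3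
theorem certB_step_16_2 : allUp certB.stepOK' 16 131072 = true :=
  allUp_merge certB_step_15_4 certB_step_15_5
theorem certB_step_16_3 : allUp certB.stepOK' 16 196608 = true :=
  allUp_merge certB_step_15_6 certB_step_15_7
theorem certB_step_17_0 : allUp certB.stepOK' 17 0 = true :=
  allUp_merge certB_step_16_0 certB_step_16_1
theorem certB_step_17_1 : allUp certB.stepOK' 17 131072 = true :=
  allUp_merge certB_step_16_2 certB_step_16_3
theorem certB_step_18_0 : allUp certB.stepOK' 18 0 = true :=
  allUp_merge certB_step_17_0 certB_step_17_1
theorem certB_entry_13_0 : allUp certB.entryOK' 13 0 = true :=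
  allUp_merge certB_entry_12_0 certB_entry_12_1
theorem certB_entry_13_1 : allUp certB.entryOK' 13 8192 = true :=
  allUp_merge certB_entry_12_2 certB_entry_12_3
theorem certB_entry_13_2 : allUp certB.entryOK' 13 16384 = true :=
  allUp_merge certB_entry_12_4 certB_entry_12_5
theorem certB_entry_13_3 : allUp certB.entryOK' 13 24576 = true :=
  allUp_merge certB_entry_12_6 certB_entry_12_7
theorem certB_entry_13_4 : allUp certB.entryOK' 13 32768 = true :=
  allUp_merge certB_entry_12_8 certB_entry_12_9
theorem certB_entry_13_5 : allUp certB.entryOK' 13 40960 = true :=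
  allUp_merge certB_entry_12_10 certB_entry_12_11
theorem certB_entry_13_6 : allUp certB.entryOK' 13 49152 = true :=
  allUp_merge certB_entry_12_12 certB_entry_12_13
theorem certB_entry_13_7 : allUp certB.entryOK' 13 57344 = true :=
  allUp_merge certB_entry_12_14 certB_entry_12_15
theorem certB_entry_14_0 : allUp certB.entryOK' 14 0 = true :=
  allUp_merge certB_entry_13_0 certB_entry_13_1
theorem certB_entry_14_1 : allUp certB.entryOK' 14 16384 = true :=
  allUp_merge certB_entry_13_2 certB_entry_13_3
theorem certB_entry_14_2 : allUp certB.entryOK' 14 32768 = true :=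
  allUp_merge certB_entry_13_4 certB_entry_13_5
theorem certB_entry_14_3 : allUp certB.entryOK' 14 49152 = true :=
  allUp_merge certB_entry_13_6 certB_entry_13_7
theorem certB_entry_15_0 : allUp certB.entryOK' 15 0 = true :=
  allUp_merge certB_entry_14_0 certB_entry_14_1
theorem certB_entry_15_1 : allUp certB.entryOK' 15 32768 = true :=
  allUp_merge certB_entry_14_2 certB_entry_14_3
theorem certB_entry_16_0 : allUp certB.entryOK' 16 0 = true :=
  allUp_merge certB_entry_15_0 certB_entry_15_1

theorem certB_complete : certB.Complete :=
  Cert.complete_of _ 18 16 (by decide +kernel) certB_step_18_0 (by decide +kernel)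
    certB_entry_16_0 (by decide +kernel)

end CfsgLib.HePres
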