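import Cfsg.Agent.Lib.CosetEnum.Use
import Cfsg.Agent.Lib.HePres.DataD

/-!
Kernel checks of coset enumeration data, in small chunks.
-/

set_option autoImplicit false
set_option maxHeartbeats 4000000
set_option Elab.async false

namespace CfsgLib.HePres
open CfsgLib.CosetEnum

theorem certD_step_11_0 : allUp certD.stepOK' 11 0 = true := by decide +kernel
theorem certD_step_11_1 : allUp certD.stepOK' 11 2048 = true := by decide +kernel
theorem certD_step_11_2 : allUp certD.stepOK' 11 4096 = true := by decide +kernel
theorem certD_step_11_3 : allUp certD.stepOK' 11 6144 = true := by decide +kernel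
theorem certD_step_11_4 : allUp certD.stepOK' 11 8192 = true := by decide +kernel
theorem certD_step_11_5 : allUp certD.stepOK' 11 10240 = true := by decide +kernel
theorem certD_step_11_6 : allUp certD.stepOK' 11 12288 = true := by decide +kernel
theorem certD_step_11_7 : allUp certD.stepOK' 11 14336 = true := by decide +kernel

end CfsgLib.HePres
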