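import Cfsg.Agent.Lib.CosetEnum.Merge
import Cfsg.Agent.Lib.HePres.CheckD_step0
import Cfsg.Agent.Lib.HePres.CheckD_entry0

/-!
The checks of the certificate, combined.
-/

set_option autoImplicit false

namespace CfsgLib.HePres
open CfsgLib.CosetEnum

theorem certD_step_12_0 : allUp certD.stepOK' 12 0 = true :=
  allUp_merge certD_step_11_0 certD_step_11_1
theorem certD_step_12_1 : allUp certD.stepOK' 12 4096 = true :=
  allUp_merge certD_step_11_2 certD_step_11_3
theorem certD_step_12_2 : allUp certD.stepOK' 12 8192 = true :=
  allUp_merge certD_step_11_4 certD_step_11_5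
theorem certD_step_12_3 : allUp certD.stepOK' 12 12288 = true :=
  allUp_merge certD_step_11_6 certD_step_11_7
theorem certD_step_13_0 : allUp certD.stepOK' 13 0 = true :=
  allUp_merge certD_step_12_0 certD_step_12_1
theorem certD_step_13_1 : allUp certD.stepOK' 13 8192 = true :=
  allUp_merge certD_step_12_2 certD_step_12_3
theorem certD_step_14_0 : allUp certD.stepOK' 14 0 = true :=
  allUp_merge certD_step_13_0 certD_step_13_1

theorem certD_complete : certD.Complete :=
  Cert.complete_of _ 14 12 (by decide +kernel) certD_step_14_0 (by decide +kernel)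
    certD_entry_12_0 (by decide +kernel)

end CfsgLib.HePres
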