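import Cfsg.Agent.Lib.CosetEnum.Use
import Cfsg.Agent.Lib.HePres.DataW

/-!
Kernel checks of coset enumeration data, in small chunks.
-/

set_option autoImplicit false
set_option maxHeartbeats 4000000
set_option Elab.async false

namespace CfsgLib.HePres
open CfsgLib.CosetEnum

theorem certW_step_11_0 : allUp certW.stepOK' 11 0 = true := by decide +kernel
theorem certW_step_11_1 : allUp certW.stepOK' 11 2048 = true := by decide +kernel
theorem certW_step_11_2 : allUp certW.stepOK' 11 4096 = true := by decide +kernel
theorem certW_step_11_3 : allUp certW.stepOK' 11 6144 = true := by decide +kernel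
theorem certW_step_11_4 : allUp certW.stepOK' 11 8192 = true := by decide +kernel
theorem certW_step_11_5 : allUp certW.stepOK' 11 10240 = true := by decide +kernel
theorem certW_step_11_6 : allUp certW.stepOK' 11 12288 = true := by decide +kernel
theorem certW_step_11_7 : allUp certW.stepOK' 11 14336 = true := by decide +kernel
theorem certW_step_11_8 : allUp certW.stepOK' 11 16384 = true := by decide +kernel
theorem certW_step_11_9 : allUp certW.stepOK' 11 18432 = true := by decide +kernel
theorem certW_step_11_10 : allUp certW.stepOK' 11 20480 = true := by decide +kernel
theorem certW_step_11_11 : allUp certW.stepOK' 11 22528 = true := by decide +kernel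
theorem certW_step_11_12 : allUp certW.stepOK' 11 24576 = true := by decide +kernel
theorem certW_step_11_13 : allUp certW.stepOK' 11 26624 = true := by decide +kernel
theorem certW_step_11_14 : allUp certW.stepOK' 11 28672 = true := by decide +kernel
theorem certW_step_11_15 : allUp certW.stepOK' 11 30720 = true := by decide +kernel

end CfsgLib.HePres
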