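import Cfsg.Agent.Lib.CosetEnum.Use
import Cfsg.Agent.Lib.HePres.DataW

/-!
Kernel checks of coset enumeration data, in small chunks.
-/

set_option autoImplicit false
set_option maxHeartbeats 4000000
set_option Elab.async false

namespace CfsgLib.HePres
open CfsgLib.CosetEnum

theorem certW_step_11_16 : allUp certW.stepOK' 11 32768 = true := by decide +kernel
theorem certW_step_11_17 : allUp certW.stepOK' 11 34816 = true := by decide +kernel
theorem certW_step_11_18 : allUp certW.stepOK' 11 36864 = true := by decide +kernel
theorem certW_step_11_19 : allUp certW.stepOK' 11 38912 = true := by decide +kernel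
theorem certW_step_11_20 : allUp certW.stepOK' 11 40960 = true := by decide +kernel
theorem certW_step_11_21 : allUp certW.stepOK' 11 43008 = true := by decide +kernel
theorem certW_step_11_22 : allUp certW.stepOK' 11 45056 = true := by decide +kernel
theorem certW_step_11_23 : allUp certW.stepOK' 11 47104 = true := by decide +kernel
theorem certW_step_11_24 : allUp certW.stepOK' 11 49152 = true := by decide +kernel
theorem certW_step_11_25 : allUp certW.stepOK' 11 51200 = true := by decide +kernel
theorem certW_step_11_26 : allUp certW.stepOK' 11 53248 = true := by decide +kernel
theorem certW_step_11_27 : allUp certW.stepOK' 11 55296 = true := by decide +kernel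
theorem certW_step_11_28 : allUp certW.stepOK' 11 57344 = true := by decide +kernel
theorem certW_step_11_29 : allUp certW.stepOK' 11 59392 = true := by decide +kernel
theorem certW_step_11_30 : allUp certW.stepOK' 11 61440 = true := by decide +kernel
theorem certW_step_11_31 : allUp certW.stepOK' 11 63488 = true := by decide +kernel

end CfsgLib.HePres
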