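import Cfsg.Agent.Lib.CosetEnum.Merge
import Cfsg.Agent.Lib.HePres.CheckW_step0
import Cfsg.Agent.Lib.HePres.CheckW_step1
import Cfsg.Agent.Lib.HePres.CheckW_entry0

/-!
The checks of the certificate, combined.
-/

set_option autoImplicit false

namespace CfsgLib.HePres
open CfsgLib.CosetEnum

theorem certW_step_12_0 : allUp certW.stepOK' 12 0 = true :=
  allUp_merge certW_step_11_0 certW_step_11_1
theorem certW_step_12_1 : allUp certW.stepOK' 12 4096 = true :=
  allUp_merge certW_step_11_2 certW_step_11_3
theorem certW_step_12_2 : allUp certW.stepOK' 12 8192 = true :=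
  allUp_merge certW_step_11_4 certW_step_11_5
theorem certW_step_12_3 : allUp certW.stepOK' 12 12288 = true :=
  allUp_merge certW_step_11_6 certW_step_11_7
theorem certW_step_12_4 : allUp certW.stepOK' 12 16384 = true :=
  allUp_merge certW_step_11_8 certW_step_11_9
theorem certW_step_12_5 : allUp certW.stepOK' 12 20480 = true :=
  allUp_merge certW_step_11_10 certW_step_11_11
theorem certW_step_12_6 : allUp certW.stepOK' 12 24576 = true :=
  allUp_merge certW_step_11_12 certW_step_11_13
theorem certW_step_12_7 : allUp certW.stepOK' 12 28672 = true :=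
  allUp_merge certW_step_11_14 certW_step_11_15
theorem certW_step_12_8 : allUp certW.stepOK' 12 32768 = true :=
  allUp_merge certW_step_11_16 certW_step_11_17
theorem certW_step_12_9 : allUp certW.stepOK' 12 36864 = true :=
  allUp_merge certW_step_11_18 certW_step_11_19
theorem certW_step_12_10 : allUp certW.stepOK' 12 40960 = true :=
  allUp_merge certW_step_11_20 certW_step_11_21
theorem certW_step_12_11 : allUp certW.stepOK' 12 45056 = true :=
  allUp_merge certW_step_11_22 certW_step_11_23
theorem certW_step_12_12 : allUp certW.stepOK' 12 49152 = true :=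
  allUp_merge certW_step_11_24 certW_step_11_25
theorem certW_step_12_13 : allUp certW.stepOK' 12 53248 = true :=
  allUp_merge certW_step_11_26 certW_step_11_27
theorem certW_step_12_14 : allUp certW.stepOK' 12 57344 = true :=
  allUp_merge certW_step_11_28 certW_step_11_29
theorem certW_step_12_15 : allUp certW.stepOK' 12 61440 = true :=
  allUp_merge certW_step_11_30 certW_step_11_31
theorem certW_step_13_0 : allUp certW.stepOK' 13 0 = true :=
  allUp_merge certW_step_12_0 certW_step_12_1
theorem certW_step_13_1 : allUp certW.stepOK' 13 8192 = true :=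
  allUp_merge certW_step_12_2 certW_step_12_3
theorem certW_step_13_2 : allUp certW.stepOK' 13 16384 = true :=
  allUp_merge certW_step_12_4 certW_step_12_5
theorem certW_step_13_3 : allUp certW.stepOK' 13 24576 = true :=
  allUp_merge certW_step_12_6 certW_step_12_7
theorem certW_step_13_4 : allUp certW.stepOK' 13 32768 = true :=
  allUp_merge certW_step_12_8 certW_step_12_9
theorem certW_step_13_5 : allUp certW.stepOK' 13 40960 = true :=
  allUp_merge certW_step_12_10 certW_step_12_11
theorem certW_step_13_6 : allUp certW.stepOK' 13 49152 = true :=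
  allUp_merge certW_step_12_12 certW_step_12_13
theorem certW_step_13_7 : allUp certW.stepOK' 13 57344 = true :=
  allUp_merge certW_step_12_14 certW_step_12_15
theorem certW_step_14_0 : allUp certW.stepOK' 14 0 = true :=
  allUp_merge certW_step_13_0 certW_step_13_1
theorem certW_step_14_1 : allUp certW.stepOK' 14 16384 = true :=
  allUp_merge certW_step_13_2 certW_step_13_3
theorem certW_step_14_2 : allUp certW.stepOK' 14 32768 = true :=
  allUp_merge certW_step_13_4 certW_step_13_5
theorem certW_step_14_3 : allUp certW.stepOK' 14 49152 = true :=
  allUp_merge certW_step_13_6 certW_step_13_7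
theorem certW_step_15_0 : allUp certW.stepOK' 15 0 = true :=
  allUp_merge certW_step_14_0 certW_step_14_1
theorem certW_step_15_1 : allUp certW.stepOK' 15 32768 = true :=
  allUp_merge certW_step_14_2 certW_step_14_3
theorem certW_step_16_0 : allUp certW.stepOK' 16 0 = true :=
  allUp_merge certW_step_15_0 certW_step_15_1
theorem certW_entry_13_0 : allUp certW.entryOK' 13 0 = true :=
  allUp_merge certW_entry_12_0 certW_entry_12_1
theorem certW_entry_13_1 : allUp certW.entryOK' 13 8192 = true :=
  allUp_merge certW_entry_12_2 certW_entry_12_3
theorem certW_entry_14_0 : allUp certW.entryOK' 14 0 = true :=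
  allUp_merge certW_entry_13_0 certW_entry_13_1

theorem certW_complete : certW.Complete :=
  Cert.complete_of _ 16 14 (by decide +kernel) certW_step_16_0 (by decide +kernel)
    certW_entry_14_0 (by decide +kernel)

end CfsgLib.HePres
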