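import Cfsg.Agent.Lib.CosetEnum.Basic

/-!
Coset enumeration data: 1 cosets, 11 nodes, 49 facts.
-/

set_option autoImplicit false
set_option linter.style.longLine false

namespace CfsgLib.HePres
open CfsgLib.CosetEnum

/-- the certificate -/
def certX : Cert where
  K := 7
  invs := [0, 1, 2, 3, 4, 5, 6]
  rels := [[0, 0],
    [0, 1, 0, 1, 0, 1, 0, 1],
    [0, 2, 0, 2, 0, 2],
    [0, 3, 0, 3],
    [0, 4, 0, 4],
    [0, 5, 0, 5],
    [0, 6, 0, 6],
    [1, 1],
    [1, 2, 1, 2],
    [1, 3, 1, 3],
    [1, 4, 1, 4],
    [1, 5, 1, 5],
    [1, 6, 1, 6],
    [2, 2],
    [2, 3, 2, 3, 2, 3, 2, 3, 2, 3, 2, 3, 2, 3, 2, 3, 2, 3, 2, 3],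
    [2, 4, 2, 4],
    [2, 5, 2, 5],
    [2, 6, 2, 6],
    [3, 3],
    [3, 4, 3, 4, 3, 4],
    [3, 5, 3, 5, 3, 5],
    [3, 6, 3, 6, 3, 6],
    [4, 4],
    [4, 5, 4, 5],
    [4, 6, 4, 6],
    [5, 5],
    [5, 6, 5, 6, 5, 6, 5, 6],
    [6, 6],
    [4, 6, 5, 6, 5],
    [4, 2, 0, 1, 2, 0, 1, 2, 0, 1],
    [1, 3, 2, 3, 2, 3, 2, 3, 2, 3, 2],
    [2, 3, 5, 6, 2, 3, 5, 6, 2, 3, 5, 6, 2, 3, 5, 6],
    [6, 5, 3]]
  subs := []
  N := 1
  M := 11
  F := 49
  defs := (.leaf 0x400000022000002100000060000005000000400000030000002000000100000000000000)
  facts := (.leaf 0x100000124000000020000008000000001000001200000000200000040000000018000011a00000002000011c00000000500000106000020ec000051c000000005000000f2008000f400005040000a0002800000e80200201400005080000a0001800000e20100201c000050c0000a0000000000e2000000000000500000020001000000de000000020000000000000001800000d800000002000009c000000005000000c4000020ec000041c000020001000000c0000000020000088000080005800000aa000020f4000049c000080001000000a600004104000048c000090001800000a00100208c00004980000900018000009a0100208400004940000900000000009a0000000000004880000100000000009a0000000000004040000100010000009600004104000008c000010001800000900000000200001100000200018000008a00000002000010c0000200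010000008600000002000000800002000580000070000020f4000019c00002000200000068000000e400001900000300010000006400004104000018c0000300018000005e0080608c000019800003000180000058008060340000098000010001800000520080608400001940000300018000004c0080602c0000094000010001000000480000000200000180000000010000004400000002000000c00000000300000038000020a4000021c00000000100000034000000020000018000040001000000300000000200002140000400010000002c0000000200000140000000018000002600000002000039c0000400030000001a000020ac000001c000060001000000160000000200000100000000028000000c000020e4000001c000050001000000080080020c000030c0000700010000000400802104000021400007000000000004000000000000398000000001000000000080420c000021800006000000000000000000000000314000000000000000000000000000002900000000000000000000000000000020c00000000000000000000000000000188000000000000000000000000000001040000000000000000000000000000008000000)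
  refs := (.leaf 0x3600005c00000300005c00005300005a00005000001700000300005300005700005900005200003700000300005300005700005700005500005700005500005700005500005700005500005700005400005200003700005000003600005300005200003800005300000100004e00003f00004c00000200003b00000200000100004a00003e00000000003600000200000100004a00004100004800003e00004100004700004000003d00004100004700004000003d00004100004700004300004500004000002c00004100004000002800004100002900002d00003500003300003400003500003100003400000500003400000200000500003100000400002500000500003100000400002500000500003100002b00002f00002b00002f00002b00002f00000400002700000500000000002700000100000400001d00000500000000001d00000100002000002200000700002200000700001f00000600001d00000700001f00000f00001a00001000001a00000b00001900001300001900000700001200000e00000700000c00001200000e00000900001500000800000b00000d00001000000e00000e00000b00000e00000700000a000007)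
  tab := (.leaf 0x0)
  nd := (.leaf 0x0)
  edge := (.leaf 0x2700001d00001700002500006100005f000051)
  img := (.leaf 0x0)

end CfsgLib.HePres
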