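import Cfsg.Prelude.Def_Spor_He
import Cfsg.Prelude.Def_Sporadic
import Cfsg.Agent.Lib.CosetEnum.Presented
import Cfsg.Agent.Lib.CosetEnum.Nested
import Cfsg.Agent.Lib.HePres.SuborbitA
import Cfsg.Agent.Lib.HePres.DataChain
import Cfsg.Agent.Lib.HePres.CheckB
import Cfsg.Agent.Lib.HePres.CheckW
import Cfsg.Agent.Lib.HePres.CheckD
import Cfsg.Agent.Lib.HePres.CheckF
import Cfsg.Agent.Lib.HePres.CheckX

/-!
The presented Held group: index 2058, order 4030387200, simplicity.
-/

set_option autoImplicit false

namespace CfsgLib.HePres

open CfsgLib.CosetEnum Cfsg.Spor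

/-- the generators in order -/
def letters : List He.Gen := [.b, .a, .c, .d, .e, .f, .g]

/-- the further relators as words -/
def extraW : List (List ℕ) := [
  [4, 6, 5, 6, 5],
  [4, 2, 0, 1, 2, 0, 1, 2, 0, 1],
  [1, 3, 2, 3, 2, 3, 2, 3, 2, 3, 2],
  [2, 3, 5, 6, 2, 3, 5, 6, 2, 3, 5, 6, 2, 3, 5, 6]]

theorem extraWords : ExtraWords letters He.extra extraW := by
  unfold ExtraWords He.extra extraW
  refine .cons ?_ (.cons ?_ (.cons ?_ (.cons ?_ .nil)))
  all_goals
    intro P _ f hf
    have hi : ∀ x, (f x)⁻¹ = f x := fun x => inv_eq_of_mul_eq_one_right (hf x)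
    simp [prodW, genOf, letters, He.a, He.b, He.c, He.d, He.e, He.f, He.g, pow_succ,
      mul_assoc, hi]

theorem mem_letters : ∀ x, x ∈ letters := by intro x; cases x <;> decide

theorem nodes : ∀ x, x ∈ coxNodes He.edges := by intro x; cases x <;> decide

/-- the numbered generators -/
def gen : ℕ → He := presGen letters He.edges He.extra

theorem gen_sq (g : ℕ) : gen g * gen g = 1 := by
  unfold gen presGen genOf
  split
  · exact of_sq (nodes _)
  · simp

theorem presA : presOK letters He.edges extraW certA = true := by decide +kernel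

/-- the subgroup of index 2058 -/
def subA : Subgroup He := Subgroup.closure {y | ∃ w ∈ certA.subs, prodW gen w = y}

theorem modelA : Model certA subA gen :=
  presModel nodes extraWords presA _ fun w hw => Subgroup.subset_closure ⟨w, hw, rfl⟩

theorem exists_action : ∃ ρ : He →* Equiv.Perm (Fin certA.N),
    ∀ g < certA.K, ρ (gen g) = letterPerm certA_complete certA_action g :=
  exists_presAction mem_letters (by decide) extraWords presA certA_complete certA_action

/-- the action on the 2058 cosets -/
noncomputable def rho : He →* Equiv.Perm (Fin certA.N) := exists_action.choose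

theorem setupA : Setup certA subA gen rho where
  complete := certA_complete
  action := certA_action
  model := modelA
  gen_top := presGen_top mem_letters rfl
  rho_gen := exists_action.choose_spec
  H_eq := rfl

/-- a relator holding in the group, missing from the presentation of the block `a c d e f g` -/
def wordW : List ℕ := [2, 3, 2, 3, 4, 3, 2, 3, 2, 3, 4, 3, 2, 3, 4]

theorem blockW : blockOK certW certA.rels 0 5 = true := by decide +kernel

theorem wordW_eq_one : prodW gen wordW = 1 := by
  have m := blockModel gen_sq modelA.rel blockW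
  have e : Subgroup.closure {y | ∃ w ∈ certW.subs, prodW (blockGen gen 0 5) w = y} = ⊥ := by
    simp [show certW.subs = [] from rfl]
  rw [e] at m
  have h := eq_one_of_run certW_complete m (w := wordW) (by decide +kernel) (by decide +kernel)
  rwa [prodW_blockGen (by decide), show wordW.map (fun g => g + 0) = wordW from rfl] at h

theorem known_eq_one : ∀ r ∈ wordW :: certA.rels, prodW gen r = 1 := by
  simp only [List.forall_mem_cons]
  exact ⟨wordW_eq_one, modelA.rel⟩

theorem blockF : blockOK certF (wordW :: certA.rels) 2 2 = true := by decide +kernel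
theorem blockD : blockOK certD (wordW :: certA.rels) 1 6 = true := by decide +kernel
theorem blockB : blockOK certB (wordW :: certA.rels) 0 7 = true := by decide +kernel

theorem finite_and_card : Finite He ∧ Nat.card He ≤ 4030387200 := by
  have hF := block_card_le gen_sq known_eq_one certF_complete blockF (subs_closure_bot rfl)
  have hD := block_step gen_sq known_eq_one certD_complete blockD (d := 1) (k := 2)
    (by decide +kernel) (by norm_num) hF
  have hB := block_step gen_sq known_eq_one certB_complete blockB (d := 1) (k := 6)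
    (by decide +kernel) le_rfl hD
  rw [genSub_blockGen_zero] at hB
  have e : genSub gen 7 = ⊤ := presGen_top (C := certA) mem_letters rfl
  rw [e] at hB
  have hn : certB.N * (certD.N * (certF.N * 1)) = 4030387200 := by decide +kernel
  rw [hn] at hB
  exact ⟨haveI := hB.1; Finite.of_equiv _ Subgroup.topEquiv.toEquiv,
    by rw [← Nat.card_congr Subgroup.topEquiv.toEquiv]; exact hB.2⟩

instance : Finite He := finite_and_card.1

theorem chain_ok : chainOK certA levels = true := by decide +kernel

theorem chain_size : chainSize certA levels = 4030387200 := by decide +kernel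

theorem card_faithful : Nat.card He = 4030387200 ∧ Function.Injective rho :=
  setupA.card_eq finite_and_card.2 chain_ok chain_size

theorem power_fix : allUp (fun x => !(Nat.blt x 2058) ||
    Nat.beq (certA.run x (certA.revInv (List.replicate 7 [6, 5, 3]).flatten)) x) 12 0 =
      true := by decide +kernel

theorem power_eq_one : prodW gen [6, 5, 3] ^ 7 ^ 1 = 1 := by
  apply card_faithful.2
  have e : prodW gen [6, 5, 3] ^ 7 ^ 1 = prodW gen (List.replicate 7 [6, 5, 3]).flatten := by
    simp [prodW, List.replicate, pow_succ, mul_assoc]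
  rw [e, map_one]
  refine Equiv.ext fun x => Fin.ext ?_
  rw [setupA.rho_prodW (by decide)]
  have h := allUp_spec power_fix x (Nat.zero_le _)
    (by have := x.2; have : certA.N = 2058 := rfl; omega)
  rw [show Nat.blt x 2058 = true by rw [Nat.blt_eq]; exact x.2] at h
  simpa using h

theorem isHe : Cfsg.IsHe He :=
  ⟨setupA.isSimpleGroup card_faithful.2 (by rw [card_faithful.1]; norm_num) suborbits
    (p := 7) (a := 3) (by norm_num) (by decide +kernel) (by rw [card_faithful.1]; norm_num)
    power_eq_one certX_complete rfl rfl rfl rfl (by decide +kernel), card_faithful.1⟩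

theorem printed_subA :
    ((Subgroup.closure ({He.a, He.c, He.d, He.e, He.f, (He.a * He.b) ^ 2,
      (He.b * He.c * He.d * He.e) ^ 7} : Set (FreeGroup He.Gen))).map
      (PresentedGroup.mk (coxRelators He.edges ∪ {r | r ∈ He.extra}))) = subA := by
  rw [MonoidHom.map_closure, subA]
  congr 1
  ext y
  have hs : certA.subs = [[1], [2], [3], [4], [5], [1, 0, 1, 0],
      (List.replicate 7 [0, 2, 3, 4]).flatten] := rfl
  simp only [Set.mem_ofPred_eq, hs, List.mem_cons, List.not_mem_nil, or_false, exists_eq_or_imp,
    exists_eq_left, Set.image_insert_eq, Set.image_singleton, Set.mem_insert_iff,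
    Set.mem_singleton_iff]
  simp only [prodW, gen, presGen, letters]
  simp [genOf, eq_comm, PresentedGroup.of, He.a, He.b, He.c, He.d, He.e, He.f, pow_succ, mul_assoc,
    List.replicate]

theorem index_and_orbits :
    let H := (Subgroup.closure ({He.a, He.c, He.d, He.e, He.f, (He.a * He.b) ^ 2,
      (He.b * He.c * He.d * He.e) ^ 7} : Set (FreeGroup He.Gen))).map
      (PresentedGroup.mk (coxRelators He.edges ∪ {r | r ∈ He.extra}))
    H.index = 2058 ∧ ∃ q₁ q₂ q₃ q₄ : He ⧸ H, MulAction.orbit H q₁ ≠ MulAction.orbit H q₂ ∧
      (MulAction.orbit H q₁).ncard = 136 ∧ (MulAction.orbit H q₂).ncard = 136 ∧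
      (MulAction.orbit H q₃).ncard = 425 ∧ (MulAction.orbit H q₄).ncard = 1360 := by
  intro H
  have e : H = subA := printed_subA
  rw [e]
  obtain ⟨q₁, e₁, h₁⟩ := setupA.exists_orbit subMask0_orbit
  obtain ⟨q₂, e₂, h₂⟩ := setupA.exists_orbit subMask1_orbit
  obtain ⟨q₃, -, h₃⟩ := setupA.exists_orbit subMask2_orbit
  obtain ⟨q₄, -, h₄⟩ := setupA.exists_orbit subMask3_orbit
  refine ⟨setupA.index_eq.trans rfl, q₁, q₂, q₃, q₄, fun hq => ?_, h₁.trans subMask0_size,
    h₂.trans subMask1_size, h₃.trans subMask2_size, h₄.trans subMask3_size⟩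
  obtain ⟨⟨h, hh⟩, he⟩ : q₂ ∈ MulAction.orbit subA q₁ := by
    rw [hq]; exact MulAction.mem_orbit_self q₂
  have := setupA.orbit_sub subMask0_orbit hh (setupA.cosetMap q₁)
  rw [← setupA.cosetMap_smul, show h • q₁ = q₂ from he, e₁, e₂] at this
  simp only at this
  revert this
  decide +kernel

end CfsgLib.HePres
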