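import Cfsg.Agent.Lib.HePres.CentMat
import Cfsg.Agent.Lib.HePres.DataCent
import Cfsg.Agent.Lib.HePres.DataCentRec
import Cfsg.Agent.Lib.HePres.SuborbitA

/-!
Checks for the centralizer of an involution: definitions.
-/

set_option autoImplicit false

namespace CfsgLib.HePres

open CfsgLib.CosetEnum

/-- image of base point `j` under element `i` -/
noncomputable def cImg (i j : ℕ) : ℕ := (centRec.at' 122 i >>> (12 * j)) % 4096

/-- matrix code of element `i` -/
noncomputable def cMat (i : ℕ) : ℕ := fullCode ((centRec.at' 122 i >>> 60) % 65536)

/-- product with a generator -/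
noncomputable def cNext (i a : ℕ) : ℕ := (centRec.at' 122 i >>> (76 + 15 * a)) % 32768

/-- parent -/
noncomputable def cPar (i : ℕ) : ℕ := (centRec.at' 122 i >>> 106) % 32768

/-- letter from the parent -/
noncomputable def cLet (i : ℕ) : ℕ := (centRec.at' 122 i >>> 121) % 2

/-- closure and tree checks of element `i` -/
noncomputable def cStep (i : ℕ) : Bool :=
  strict i fun i => strict (cNext i 0) fun jx => strict (cNext i 1) fun jy =>
    band (band (ltB jx 21504) (ltB jy 21504))
      (band
        ((List.range 5).all fun k =>
          Nat.beq (cImg jx k) (centXTab.at' 12 (cImg i k)) &&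
            Nat.beq (cImg jy k) (centYTab.at' 12 (cImg i k)))
        (band (band (Nat.beq (cMat jx) (mul5 centMX (cMat i))) (Nat.beq (cMat jy) (mul5 centMY (cMat i))))
          (band (Nat.beq i 0 || (ltB (cPar i) i && Nat.beq (cNext (cPar i) (cLet i)) i))
            (band (Nat.beq (centBy.at' 16 ((centRec.at' 122 i >>> 60) % 65536)) i)
              (Nat.beq i 0 || (List.range 5).any fun k => !Nat.beq (cImg i k) (centBases.getD k 0))))))

/-- the check of element `i`, or nothing beyond the last -/
noncomputable def cStep' (i : ℕ) : Bool := pick (ltB i 21504) (cStep i) true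

/-- every candidate matrix is listed or singular -/
noncomputable def cBy (c : ℕ) : Bool :=
  strict c fun c => strict (centBy.at' 16 c) fun v =>
    band (shapeOK c) (pick (ltB v 21504) (Nat.beq ((centRec.at' 122 v >>> 60) % 65536) c)
      (killsB (fullCode c) (v - 21504)))

/-- the suborbit relative to base point number `i` -/
noncomputable def cRel (i y : ℕ) : List Bool :=
  let z := certA.run y (certA.revInv (centBack.getD i []))
  [subMask0.testBit z, subMask1.testBit z, subMask2.testBit z, subMask3.testBit z]

/-- fixed by the involution -/
noncomputable def zFix (y : ℕ) : Bool := Nat.beq (certA.run y (certA.revInv [4])) y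

/-- the witnesses of level `j` are in place, and every candidate has one -/
noncomputable def cLevel (j : ℕ) : Bool :=
  let b := centBases.getD j 0
  let wit := centWit.getD j []
  (wit.all fun p => ltB p.2 21504 && Nat.beq (cImg p.2 j) p.1 &&
    (List.range j).all fun k => Nat.beq (cImg p.2 k) (centBases.getD k 0)) &&
    (List.range 2058).all fun y =>
      (zFix y != zFix b) || ((List.range j).any fun i => cRel i y != cRel i b) ||
        wit.any fun p => Nat.beq p.1 y

end CfsgLib.HePres
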