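import Mathlib.Data.Nat.Notation

/-!
Automorphisms of the presented Held group: data.
-/

set_option autoImplicit false
set_option maxRecDepth 20000

namespace CfsgLib.HePres

/-- an element of order seventeen inverted by the involution -/
def autX : List ℕ := [4, 3, 2, 3, 2, 0, 6, 4, 2, 3, 4, 3, 2, 4, 6, 0, 2, 3, 2, 3]

/-- a word squaring `autX` by conjugation, centralising the involution -/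
def autN : List ℕ := [0, 5, 4, 3, 6, 5, 1, 4, 6, 0, 6, 1, 6, 5, 1, 0, 1, 3, 1, 5, 1, 3, 2, 4, 3, 6, 4, 0, 6, 2, 3, 6, 3, 1, 2, 3, 4, 0, 5, 4, 5, 0, 4, 3, 2, 1, 3, 6, 3, 2, 6, 0, 4, 6, 3, 4, 2, 3, 1, 5, 1, 3, 1, 0, 1, 5, 6, 1, 6, 0, 6, 4, 1, 5, 6, 3, 4, 5, 0, 4, 0, 5, 4, 3, 6, 5, 1, 4, 6, 0, 6, 1, 6, 5, 1, 0, 1, 3, 1, 5, 1, 3, 2, 4, 3, 6, 4, 0, 6, 2, 3, 6, 3, 1, 2, 3, 4, 0, 5, 4, 5, 0, 4, 3, 2, 1, 3, 6, 3, 2, 6, 0, 4, 6, 3, 4, 2, 3, 1, 5, 1, 3, 1, 0, 1, 5, 6, 1, 6, 0, 6, 4, 1, 5, 6, 3, 4, 5, 0, 4, 0, 5, 4, 3, 6, 5, 1, 4, 6, 0, 6, 1, 6, 5, 1, 0, 1, 3, 1, 5, 1, 3, 2, 4, 3, 6, 4, 0, 6, 2, 3, 6, 3, 1, 2, 3, 4, 0, 5, 0, 0, 5, 4, 3, 6, 5, 1, 4, 6, 0, 6, 1, 6, 5, 1, 0, 1, 3, 1,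 5, 1, 3, 2, 4, 3, 6, 4, 0, 6, 2, 3, 6, 3, 1, 2, 3, 4, 0, 5, 4, 5, 0, 4, 3, 2, 1, 3, 6, 3, 2, 6, 0, 4, 6, 3, 4, 2, 3, 1, 5, 1, 3, 1, 0, 1, 5, 6, 1, 6, 0, 6, 4, 1, 5, 6, 3, 4, 5, 0, 4, 0, 5, 4, 3, 6, 5, 1, 4, 6, 0, 6, 1, 6, 5, 1, 0, 1, 3, 1, 5, 1, 3, 2, 4, 3, 6, 4, 0, 6, 2, 3, 6, 3, 1, 2, 3, 4, 0, 5, 4, 5, 0, 4, 3, 2, 1, 3, 6, 3, 2, 6, 0, 4, 6, 3, 4, 2, 3, 1, 5, 1, 3, 1, 0, 1, 5, 6, 1, 6, 0, 6, 4, 1, 5, 6, 3, 4, 5, 0, 4, 0, 5, 4, 3, 6, 5, 1, 4, 6, 0, 6, 1, 6, 5, 1, 0, 1, 3, 1, 5, 1, 3, 2, 4, 3, 6, 4, 0, 6, 2, 3, 6, 3, 1, 2, 3, 4, 0, 5, 0, 5, 4, 3, 6, 5, 1, 4, 6, 0, 6, 1, 6, 5, 1, 0, 1, 3, 1, 5, 1, 3, 2, 4, 3, 6, 4, 0, 6, 2, 3, 6, 3, 1, 2, 3, 4, 0, 5, 4, 5, 0, 4, 3, 2, 1,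 3, 6, 3, 2, 6, 0, 4, 6, 3, 4, 2, 3, 1, 5, 1, 3, 1, 0, 1, 5, 6, 1, 6, 0, 6, 4, 1, 5, 6, 3, 4, 5, 0, 4, 0, 5, 4, 3, 6, 5, 1, 4, 6, 0, 6, 1, 6, 5, 1, 0, 1, 3, 1, 5, 1, 3, 2, 4, 3, 6, 4, 0, 6, 2, 3, 6, 3, 1, 2, 3, 4, 0, 5, 4, 5, 0, 4, 3, 2, 1, 3, 6, 3, 2, 6, 0, 4, 6, 3, 4, 2, 3, 1, 5, 1, 3, 1, 0, 1, 5, 6, 1, 6, 0, 6, 4, 1, 5, 6, 3, 4, 5, 0, 4, 0, 5, 4, 3, 6, 5, 1, 4, 6, 0, 6, 1, 6, 5, 1, 0, 1, 3, 1, 5, 1, 3, 2, 4, 3, 6, 4, 0, 6, 2, 3, 6, 3, 1, 2, 3, 4, 0, 5, 0, 0, 5, 4, 3, 6, 5, 1, 4, 6, 0, 6, 1, 6, 5, 1, 0, 1, 3, 1, 5, 1, 3, 2, 4, 3, 6, 4, 0, 6, 2, 3, 6, 3, 1, 2, 3, 4, 0, 5, 4, 5, 0, 4, 3, 2, 1, 3, 6, 3, 2, 6, 0, 4, 6, 3, 4, 2, 3, 1, 5, 1, 3, 1, 0, 1, 5, 6, 1, 6, 0, 6, 4,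 1, 5, 6, 3, 4, 5, 0, 4, 0, 5, 4, 3, 6, 5, 1, 4, 6, 0, 6, 1, 6, 5, 1, 0, 1, 3, 1, 5, 1, 3, 2, 4, 3, 6, 4, 0, 6, 2, 3, 6, 3, 1, 2, 3, 4, 0, 5, 4, 5, 0, 4, 3, 2, 1, 3, 6, 3, 2, 6, 0, 4, 6, 3, 4, 2, 3, 1, 5, 1, 3, 1, 0, 1, 5, 6, 1, 6, 0, 6, 4, 1, 5, 6, 3, 4, 5, 0, 4, 0, 5, 4, 3, 6, 5, 1, 4, 6, 0, 6, 1, 6, 5, 1, 0, 1, 3, 1, 5, 1, 3, 2, 4, 3, 6, 4, 0, 6, 2, 3, 6, 3, 1, 2, 3, 4, 0, 5, 0, 5, 4, 3, 6, 5, 1, 4, 6, 0, 6, 1, 6, 5, 1, 0, 1, 3, 1, 5, 1, 3, 2, 4, 3, 6, 4, 0, 6, 2, 3, 6, 3, 1, 2, 3, 4, 0, 5, 4, 5, 0, 4, 3, 2, 1, 3, 6, 3, 2, 6, 0, 4, 6, 3, 4, 2, 3, 1, 5, 1, 3, 1, 0, 1, 5, 6, 1, 6, 0, 6, 4, 1, 5, 6, 3, 4, 5, 0, 4, 0, 5, 4, 3, 6, 5, 1, 4, 6, 0, 6, 1, 6, 5, 1, 0, 1, 3, 1,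 5, 1, 3, 2, 4, 3, 6, 4, 0, 6, 2, 3, 6, 3, 1, 2, 3, 4, 0, 5, 4, 5, 0, 4, 3, 2, 1, 3, 6, 3, 2, 6, 0, 4, 6, 3, 4, 2, 3, 1, 5, 1, 3, 1, 0, 1, 5, 6, 1, 6, 0, 6, 4, 1, 5, 6, 3, 4, 5, 0, 4, 0, 5, 4, 3, 6, 5, 1, 4, 6, 0, 6, 1, 6, 5, 1, 0, 1, 3, 1, 5, 1, 3, 2, 4, 3, 6, 4, 0, 6, 2, 3, 6, 3, 1, 2, 3, 4, 0, 5]

/-- expand a word in `0 = X`, `1 = Y`, `2 = X⁻¹` -/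
def expX : List ℕ → List ℕ
  | [] => []
  | 0 :: w => autX ++ expX w
  | 1 :: w => 0 :: expX w
  | _ :: w => autX.reverse ++ expX w

/-- a point of the first suborbit -/
def autU : ℕ := 22

/-- words moving the points of the first suborbit to the first coset -/
def autBack : List (ℕ × List ℕ) := [
  (22, [0, 2, 3, 2, 4, 3, 6]),
  (25, [0, 2, 3, 2, 3, 4, 3, 6]),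
  (47, [0, 2, 3, 2, 3, 5, 6, 3]),
  (48, [0, 2, 3, 2, 4, 3, 6, 5]),
  (50, [0, 2, 3, 2, 3, 4, 6]),
  (52, [0, 2, 3, 2, 3, 4, 3, 6, 3]),
  (75, [0, 2, 3, 2, 3, 6]),
  (90, [0, 2, 3, 2, 3, 5, 6]),
  (91, [0, 2, 3, 2, 3, 6, 5, 3, 4]),
  (93, [0, 2, 3, 2, 3, 6, 5]),
  (94, [0, 2, 3, 2, 3, 4, 6, 3]),
  (98, [0, 6, 3, 2, 3, 4, 6, 3]),
  (105, [0, 2, 3, 2, 0, 1, 3, 4, 5, 3, 6]),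
  (157, [0, 2, 3, 4, 5, 3, 2, 3, 6]),
  (158, [0, 2, 3, 2, 3, 6, 5, 3]),
  (163, [0, 2, 3, 2, 3, 4, 6, 3, 2]),
  (170, [0, 6, 3, 2, 3, 4, 6]),
  (173, [0, 2, 3, 2, 0, 3, 4, 5, 3, 6]),
  (179, [0, 2, 3, 2, 0, 1, 3, 4, 5, 3, 2, 6]),
  (180, [0, 2, 3, 2, 0, 3, 4, 5, 3, 6, 5]),
  (181, [0, 2, 3, 4, 5, 3, 2, 3, 2, 0]),
  (182, [0, 2, 3, 2, 0, 3, 4, 5, 3, 4, 6]),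
  (253, [0, 6, 3, 2, 3, 6]),
  (269, [0, 2, 3, 2, 3, 6, 5, 3, 2]),
  (275, [0, 6, 3, 2, 3, 4, 3, 6]),
  (280, [0, 6, 3, 2, 3, 5, 6]),
  (284, [0, 2, 3, 2, 0, 3, 4, 5, 3, 2, 6]),
  (285, [0, 2, 3, 2, 0, 3, 6, 5, 3, 6]),
  (298, [0, 2, 3, 2, 0, 3, 4, 5, 3, 2, 6, 5]),
  (299, [0, 2, 3, 2, 0, 1, 3, 4, 5, 3, 2, 6, 3]),
  (300, [0, 2, 3, 2, 0, 3, 4, 5, 3, 2, 4, 6]),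
  (301, [0, 2, 3, 4, 5, 3, 2, 0, 3, 2, 0]),
  (332, [0, 2, 3, 2, 0, 1, 3, 2, 0, 5, 3, 2, 0, 6]),
  (384, [0, 2, 3, 2, 0, 1, 3, 2, 5, 3, 2, 0, 6]),
  (436, [0, 6, 3, 2, 3, 6, 5]),
  (437, [0, 6, 3, 2, 4, 3, 6]),
  (445, [0, 6, 3, 2, 3, 5, 6, 3]),
  (447, [0, 2, 3, 2, 3, 6, 5, 3, 2, 3]),
  (451, [0, 6, 3, 2, 3, 6, 5, 3]),
  (455, [0, 6, 3, 2, 3, 6, 5, 3, 4]),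
  (465, [0, 2, 3, 2, 0, 3, 4, 5, 3, 2, 6, 3]),
  (466, [0, 2, 3, 2, 0, 3, 6, 5, 3, 2, 6]),
  (497, [6, 3, 2, 0, 3, 2, 3, 2, 0, 3, 5, 6]),
  (498, [0, 6, 3, 2, 0, 3, 2, 3, 2, 0, 1, 6, 5]),
  (499, [0, 6, 3, 2, 0, 3, 2, 4, 3, 2, 0, 6]),
  (500, [0, 2, 3, 2, 0, 3, 4, 5, 3, 2, 4, 6, 3]),
  (521, [0, 2, 3, 2, 0, 3, 2, 3, 5, 3, 2, 0, 6]),
  (563, [0, 2, 3, 2, 0, 1, 3, 2, 5, 3, 2, 0, 4, 6]),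
  (569, [0, 2, 3, 2, 0, 1, 3, 2, 5, 3, 2, 0, 1, 6]),
  (570, [0, 2, 3, 2, 0, 1, 3, 2, 0, 5, 3, 2, 0, 6, 3]),
  (627, [0, 6, 3, 2, 0, 3, 2, 3, 2, 0, 4, 6]),
  (645, [0, 2, 3, 2, 0, 3, 2, 5, 3, 2, 0, 6]),
  (737, [0, 6, 3, 2, 4, 3, 6, 5]),
  (743, [0, 2, 3, 2, 3, 6, 5, 3, 2, 3, 2]),
  (744, [0, 2, 3, 2, 3, 6, 5, 3, 2, 3, 5]),
  (746, [0, 6, 3, 2, 3, 6, 5, 3, 2]),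
  (749, [0, 6, 3, 4, 5, 3, 2, 3, 6]),
  (770, [0, 6, 3, 2, 0, 3, 2, 3, 2, 0, 6, 5]),
  (839, [0, 6, 3, 2, 0, 3, 2, 3, 2, 0, 6, 5, 3]),
  (840, [6, 3, 2, 0, 3, 2, 3, 2, 0, 3, 6, 5]),
  (841, [6, 3, 2, 0, 3, 2, 3, 2, 0, 3, 4, 6]),
  (842, [0, 6, 3, 2, 0, 3, 2, 3, 2, 0, 1, 6]),
  (843, [6, 3, 2, 0, 3, 2, 3, 2, 0, 3, 2, 6]),
  (866, [0, 2, 3, 2, 0, 1, 3, 4, 6, 3, 2, 3, 2, 0, 6]),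
  (876, [0, 2, 3, 2, 0, 3, 2, 5, 3, 2, 0, 4, 6]),
  (881, [0, 2, 3, 2, 0, 3, 2, 5, 3, 2, 0, 1, 6]),
  (882, [0, 2, 3, 2, 0, 3, 2, 3, 5, 3, 2, 0, 6, 3]),
  (937, [0, 6, 3, 2, 0, 3, 2, 3, 5, 3, 2, 0, 3, 2]),
  (946, [0, 6, 3, 2, 0, 3, 2, 3, 5, 3, 2, 0, 1, 3]),
  (1028, [0, 6, 3, 2, 0, 3, 2, 3, 2, 0, 6]),
  (1179, [0, 6, 3, 2, 3, 6, 5, 3, 2, 3]),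
  (1229, [0, 2, 3, 2, 0, 3, 4, 6, 3, 2, 3, 2, 0, 6]),
  (1305, [6, 3, 2, 0, 3, 2, 3, 2, 0, 1, 3, 6]),
  (1306, [6, 3, 2, 0, 3, 2, 3, 2, 0, 3, 6]),
  (1307, [0, 6, 3, 2, 0, 3, 2, 3, 2, 0, 1, 6, 3]),
  (1318, [0, 6, 3, 2, 0, 3, 4, 6, 3, 2, 3, 2, 0, 6]),
  (1333, [0, 6, 3, 2, 0, 3, 2, 3, 5, 3, 2, 0, 3, 2, 5]),
  (1338, [0, 6, 3, 2, 0, 3, 2, 3, 2, 0, 6, 3, 2, 3]),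
  (1343, [0, 6, 3, 2, 0, 3, 2, 3, 2, 0, 6, 3, 2]),
  (1347, [0, 2, 3, 2, 0, 3, 2, 5, 3, 2, 0, 4, 6, 3]),
  (1354, [0, 2, 3, 2, 0, 3, 2, 3, 5, 3, 2, 0, 6, 3, 2]),
  (1396, [0, 6, 3, 2, 0, 3, 2, 3, 5, 3, 2, 0, 3]),
  (1402, [0, 6, 3, 2, 0, 3, 2, 3, 5, 3, 2, 0, 1]),
  (1487, [0, 6, 3, 2, 0, 3, 2, 3, 2, 0, 6, 3]),
  (1651, [0, 2, 3, 2, 0, 3, 4, 6, 3, 2, 0, 3, 2, 0, 6]),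
  (1662, [0, 2, 3, 2, 0, 3, 2, 5, 3, 2, 0, 4, 6, 3, 5]),
  (1664, [0, 2, 3, 2, 0, 3, 4, 6, 3, 2, 3, 4, 5, 3, 6]),
  (1668, [0, 6, 3, 2, 0, 3, 2, 3, 2, 0, 1, 6, 3, 2]),
  (1710, [6, 3, 2, 0, 3, 2, 3, 4, 5, 3, 2, 0]),
  (1711, [6, 3, 2, 0, 3, 2, 3, 2, 0, 3, 6, 3]),
  (1716, [0, 6, 3, 2, 0, 3, 2, 3, 5, 3, 2, 0, 3, 5]),
  (1720, [6, 3, 2, 0, 3, 2, 3, 6, 5, 3, 2, 0, 4]),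
  (1744, [0, 6, 3, 2, 0, 3, 2, 3, 2, 0, 6, 3, 2, 3, 2]),
  (1745, [6, 3, 2, 0, 3, 2, 3, 2, 0, 3, 6, 3, 2]),
  (1746, [6, 3, 2, 0, 3, 2, 0, 3, 4, 5, 3, 2, 0]),
  (1750, [0, 6, 3, 2, 0, 1, 3, 2, 3, 5, 3, 2, 0, 3]),
  (1754, [0, 6, 3, 2, 0, 1, 3, 2, 3, 5, 3, 2, 0, 1]),
  (1772, [0, 6, 3, 2, 0, 3, 2, 3, 5, 3, 2, 0]),
  (1776, [0, 6, 3, 2, 0, 3, 2, 4, 3, 5, 3, 2, 0]),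
  (1777, [0, 6, 3, 2, 0, 3, 2, 5, 3, 2, 0, 1]),
  (1887, [0, 6, 3, 2, 0, 1, 3, 2, 5, 3, 2, 0, 3]),
  (1900, [0, 6, 3, 2, 0, 3, 2, 5, 3, 2, 0]),
  (1913, [0, 6, 3, 2, 0, 1, 3, 2, 5, 3, 2, 0]),
  (1924, [0, 6, 3, 2, 0, 1, 3, 2, 3, 5, 3, 2, 0, 3, 5]),
  (1925, [6, 3, 2, 0, 1, 3, 2, 3, 6, 5, 3, 2, 0, 4]),
  (1933, [0, 2, 3, 2, 0, 3, 4, 6, 3, 2, 3, 4, 5, 3, 2, 6]),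
  (1952, [0, 6, 3, 2, 0, 3, 2, 5, 3, 2, 0, 3, 2]),
  (1954, [0, 6, 3, 2, 0, 3, 2, 5, 3, 2, 0, 1, 3]),
  (1955, [6, 3, 2, 0, 3, 2, 3, 6, 5, 3, 2, 0]),
  (1972, [6, 3, 2, 0, 3, 2, 3, 6, 5, 3, 2, 0, 1]),
  (1975, [0, 6, 3, 2, 0, 1, 3, 2, 3, 5, 3, 2, 0]),
  (1976, [0, 6, 3, 2, 0, 1, 3, 2, 3, 5, 3, 2, 0, 4]),
  (1977, [0, 6, 3, 2, 0, 1, 3, 2, 0, 3, 5, 3, 2, 0]),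
  (1978, [0, 6, 3, 2, 0, 1, 3, 2, 5, 3, 2, 0, 1]),
  (1992, [0, 6, 3, 2, 0, 3, 2, 3, 5, 3, 2, 0, 4]),
  (1994, [0, 6, 3, 2, 0, 3, 2, 4, 5, 3, 2, 0]),
  (1995, [0, 6, 3, 2, 0, 3, 2, 5, 3, 2, 0, 4]),
  (2005, [6, 3, 2, 0, 1, 3, 2, 3, 6, 5, 3, 2, 0]),
  (2007, [0, 6, 3, 2, 0, 1, 3, 2, 5, 3, 2, 0, 3, 4]),
  (2026, [6, 3, 2, 0, 1, 3, 2, 3, 6, 3, 5, 3, 2, 0]),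
  (2027, [0, 6, 3, 2, 0, 3, 2, 5, 3, 2, 0, 3]),
  (2029, [0, 6, 3, 2, 0, 1, 3, 2, 5, 3, 2, 0, 1, 3]),
  (2030, [0, 6, 3, 2, 0, 1, 3, 2, 5, 3, 2, 0, 3, 5]),
  (2033, [0, 6, 3, 2, 0, 1, 3, 2, 0, 5, 3, 2, 0]),
  (2036, [0, 6, 3, 2, 0, 1, 3, 2, 5, 3, 2, 0, 4]),
  (2039, [0, 6, 3, 2, 0, 3, 2, 3, 5, 6, 3, 2, 0]),
  (2042, [0, 6, 3, 2, 0, 3, 2, 4, 5, 3, 2, 0, 3]),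
  (2044, [0, 6, 3, 2, 0, 3, 2, 4, 3, 5, 6, 3, 2, 0]),
  (2046, [6, 3, 2, 0, 3, 2, 0, 3, 6, 5, 3, 2, 0]),
  (2047, [0, 6, 3, 2, 0, 3, 2, 5, 3, 2, 0, 3, 4]),
  (2050, [0, 6, 3, 2, 0, 3, 2, 4, 5, 3, 2, 0, 3, 2]),
  (2051, [6, 3, 2, 0, 1, 3, 2, 3, 6, 5, 3, 2, 0, 1]),
  (2052, [0, 6, 3, 2, 0, 3, 2, 4, 5, 3, 2, 0, 3, 4]),
  (2053, [0, 6, 3, 2, 0, 3, 2, 5, 3, 2, 0, 4, 3]),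
  (2056, [0, 6, 3, 2, 0, 3, 2, 3, 5, 6, 3, 2, 0, 4]),
  (2057, [0, 6, 3, 2, 0, 1, 3, 2, 5, 3, 2, 0, 4, 3])]

/-- relations separating the images -/
def autRels : List (List ℕ × ℕ) := [([0, 0, 0, 0, 1], 4), ([0, 0, 1], 8), ([0, 0, 1, 0, 1, 0, 1], 4), ([0, 1], 17)]

/-- the point the subgroup moved by the exchange fixes -/
def tauPoint : ℕ := 1178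

/-- a word moving it to the first coset -/
def tauBack : List ℕ := [0, 2, 3, 2, 3, 6, 5, 3, 2, 0, 3, 5]

/-- a witness that the exchange is not inner -/
def tauWit : List ℕ := [6, 3, 2, 3, 2, 0]

/-- words in `0 = X`, `1 = Y`, `2 = X⁻¹` giving the seven letters -/
def autGenW : List (List ℕ) := [
  [1],
  [0, 0, 0, 1, 2, 2, 1, 0, 0, 1, 2, 2, 2, 1, 2, 2, 1, 0, 1, 0, 0, 1, 0, 1, 2, 1, 0, 0, 0, 1, 0, 1, 2, 2, 1],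
  [1, 2, 2, 2, 2, 1, 0, 0, 1, 0, 0, 0, 1, 0, 1, 2, 1, 2, 2, 2, 1, 2, 2, 1, 0, 0, 0, 0, 1],
  [0, 0, 0, 1, 2, 1, 0, 1, 0, 0, 1, 0, 1, 0, 1, 0, 0, 1, 0, 0, 1, 0, 0, 0, 0, 0, 0, 1, 2, 1, 0, 0, 1],
  [0, 0, 0, 0, 0, 0, 1, 2, 1, 0, 0, 0, 0, 1, 2, 1, 0, 0, 0, 0, 0, 1, 0, 0, 0, 1, 0, 1, 2, 1, 2, 2, 2, 1, 0, 1],
  [0, 0, 0, 1, 0, 0, 1, 0, 0, 1, 2, 2, 1, 0, 0, 0, 1, 2, 1, 0, 0, 0, 1, 2, 2, 1, 0, 0, 1, 0, 0, 1, 0, 0, 0],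
  [0, 0, 0, 0, 0, 0, 1, 0, 0, 0, 0, 0, 0, 0, 0, 1, 0, 0, 0, 0, 0, 0, 1, 2, 2, 1, 2, 2, 1]]

end CfsgLib.HePres
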