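import Cfsg.Agent.Lib.HePres.Main
import Cfsg.Agent.Lib.HePres.CentDefs
import Cfsg.Agent.Lib.HePres.DataAut
import Cfsg.Agent.Lib.HePres.DataChainP
import Cfsg.Agent.Lib.CosetEnum.Merge

/-!
Checks for the automorphisms of the presented Held group.
-/

set_option autoImplicit false
set_option Elab.async false
set_option maxHeartbeats 4000000

namespace CfsgLib.HePres

open CfsgLib.CosetEnum

/-- exchange of the letters five and six -/
def swapL (g : ℕ) : ℕ := cond (Nat.beq g 5) 6 (cond (Nat.beq g 6) 5 g)

/-- exchange applied to a word -/
def swapW (w : List ℕ) : List ℕ := w.map swapL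

/-- the image of a point under a word -/
noncomputable def act (w : List ℕ) (x : ℕ) : ℕ := certA.run x (certA.revInv w)

/-- the image of a point under the `k`-th power of `autX` -/
noncomputable def powAct : ℕ → ℕ → ℕ
  | 0, x => x
  | k + 1, x => powAct k (act autX x)

/-- membership of the first suborbit relative to `back` -/
noncomputable def relBits (back : List ℕ) (y : ℕ) : List Bool :=
  [subMask0.testBit (act back y), subMask1.testBit (act back y),
    subMask2.testBit (act back y), subMask3.testBit (act back y)]

/-- the word moving a point of the first suborbit back -/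
noncomputable def backOf (v : ℕ) : List ℕ :=
  ((autBack.find? fun p => Nat.beq p.1 v).map Prod.snd).getD []

/-- the action of element `i` of the centralizer, by its path -/
noncomputable def cPerm : ℕ → ℕ → ℕ → ℕ
  | 0, _, x => x
  | n + 1, i, x =>
    pick (Nat.beq i 0) x
      (pick (Nat.beq (cLet i) 0) (centXTab.at' 12 (cPerm n (cPar i) x))
        (centYTab.at' 12 (cPerm n (cPar i) x)))

/-- the path of element `i` is short -/
noncomputable def cRoot : ℕ → ℕ → Bool
  | 0, i => Nat.beq i 0
  | n + 1, i => Nat.beq i 0 || cRoot n (cPar i)

/-- follow a word in `X ^ k` and element `i` -/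
noncomputable def relRun (k i : ℕ) : List ℕ → ℕ → ℕ
  | [], x => x
  | a :: w, x => strict (pick (Nat.beq a 0) (powAct k x) (cPerm 28 i x)) fun y => relRun k i w y

/-- iterate -/
noncomputable def iterRun (k i : ℕ) (w : List ℕ) : ℕ → ℕ → ℕ
  | 0, x => x
  | m + 1, x => strict (relRun k i w x) fun y => iterRun k i w m y

/-- element `i` may be the image of the second generator -/
noncomputable def autCand (k i : ℕ) : Bool :=
  (List.range 5).all (fun j =>
      Nat.beq (cPerm 28 i (cImg i j)) (centBases.getD j 0)) &&
    autRels.all fun r => (List.range 5).all fun j =>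
      Nat.beq (iterRun k i r.1 r.2 (centBases.getD j 0)) (centBases.getD j 0)

/-- only one element survives -/
noncomputable def autScan (i : ℕ) : Bool :=
  pick (ltB i 21504) (cRoot 28 i && (!autCand 1 i || Nat.beq i 2) && (!autCand 3 i || Nat.beq i 1765))
    true

/-- follow a word in `autX` and the first letter -/
noncomputable def baseRun : List ℕ → ℕ → ℕ
  | [], x => x
  | a :: w, x => baseRun w (pick (Nat.beq a 0) (act autX x) (act [0] x))

/-- iterate -/
noncomputable def baseIter (w : List ℕ) : ℕ → ℕ → ℕ
  | 0, x => x
  | m + 1, x => baseIter w m (baseRun w x)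

/-- all points satisfy a condition -/
noncomputable def allPts (f : ℕ → Bool) : Bool := allUp (fun x => pick (ltB x 2058) (f x) true) 12 0

/-- the five chain bases satisfy a condition -/
noncomputable def basePts (f : ℕ → Bool) : Bool :=
  (List.range 5).all fun j => f (centBases.getD j 0)

theorem aX_letters : ((autX.all fun g => Nat.blt g 7) && (autN.all fun g => Nat.blt g 7) &&
    (tauBack.all fun g => Nat.blt g 7) && (tauWit.all fun g => Nat.blt g 7) &&
    (autBack.all fun p => p.2.all fun g => Nat.blt g 7)) = true := by decide +kernel

theorem aX_order : allPts (fun x => Nat.beq (powAct 17 x) x) = true := by decide +kernel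

theorem aX_fix : allPts (fun x => Nat.beq x 0 || !Nat.beq (act autX x) x) = true ∧
    act autX 0 = 0 := by decide +kernel

theorem aX_inv : allPts (fun x => Nat.beq (act autX (act [4] (act autX x))) (act [4] x)) = true := by
  decide +kernel

theorem aN_sq : basePts (fun x => Nat.beq (act autN (act autX x)) (powAct 2 (act autN x))) = true := by
  decide +kernel

theorem aN_z : basePts (fun x => Nat.beq (act autN (act [4] x)) (act [4] (act autN x))) = true := by
  decide +kernel

theorem aY_z : allPts (fun x => Nat.beq (act [0] (act [4] x)) (act [4] (act [0] x))) = true := by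
  decide +kernel

theorem aRels : autRels.all (fun r =>
    allPts fun x => Nat.beq (baseIter r.1 r.2 x) x) = true := by decide +kernel

theorem aU : (Nat.blt autU 2058 && subMask0.testBit autU &&
    (List.range 2058).all (fun v => !subMask0.testBit v ||
      (Nat.beq (act (backOf v) v) 0 &&
        (((List.range 17).any fun j => Nat.beq (powAct j autU) v) ||
          (List.range 17).any fun i =>
            relBits (backOf autU) (powAct i autU) != relBits (backOf v) (powAct i v))))) = true := by
  decide +kernel

theorem aGenW : ((List.range 7).all fun g =>
    (expX (autGenW.getD g [])).all (fun a => Nat.blt a 7) &&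
      basePts fun x => Nat.beq (act (expX (autGenW.getD g [])) x) (act [g] x)) = true := by
  decide +kernel

theorem chainP_ok : chainOK certA levelsP = true := by decide +kernel

theorem chainP_size : chainSize certA levelsP = 4030387200 := by decide +kernel

theorem chainP_bases : (levelsP.all fun l =>
    Nat.beq l.base 0 || (List.range 17).any fun j => Nat.beq (powAct j autU) l.base) = true := by
  decide +kernel

theorem tau_rels : (extraW.all fun w =>
    allPts fun x => Nat.beq (act (swapW w) x) x) = true := by decide +kernel

theorem tau_fixed : ((List.range 2058).all fun r =>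
    Nat.beq r tauPoint || certA.subs.any fun w => !Nat.beq (act (swapW w) r) r) = true := by
  decide +kernel

theorem tau_wit : (Nat.beq (act tauBack tauPoint) 0 &&
    (subMask0.testBit (act tauWit 0) != subMask0.testBit (act tauBack (act (swapW tauWit) tauPoint)))) =
      true := by
  decide +kernel

end CfsgLib.HePres
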