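import Cfsg.Agent.Lib.HePres.AutCheck

/-!
Candidates for the images of the second generator.
-/

set_option autoImplicit false
set_option Elab.async false
set_option maxHeartbeats 4000000

namespace CfsgLib.HePres

open CfsgLib.CosetEnum

theorem autScan_0 : allUp autScan 11 0 = true := by decide +kernel
theorem autScan_1 : allUp autScan 11 2048 = true := by decide +kernel
theorem autScan_2 : allUp autScan 11 4096 = true := by decide +kernel
theorem autScan_3 : allUp autScan 11 6144 = true := by decide +kernel
theorem autScan_4 : allUp autScan 11 8192 = true := by decide +kernel
theorem autScan_5 : allUp autScan 11 10240 = true := by decide +kernel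
theorem autScan_6 : allUp autScan 11 12288 = true := by decide +kernel
theorem autScan_7 : allUp autScan 11 14336 = true := by decide +kernel
theorem autScan_8 : allUp autScan 11 16384 = true := by decide +kernel
theorem autScan_9 : allUp autScan 11 18432 = true := by decide +kernel
theorem autScan_10 : allUp autScan 11 20480 = true := by decide +kernel

theorem autScan_all (i : ℕ) (hi : i < 21504) : autScan i = true := by
  by_cases h0 : i < 2048
  · exact allUp_spec autScan_0 i (by omega) (by norm_num; omega)
  by_cases h1 : i < 4096
  · exact allUp_spec autScan_1 i (by omega) (by norm_num; omega)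
  by_cases h2 : i < 6144
  · exact allUp_spec autScan_2 i (by omega) (by norm_num; omega)
  by_cases h3 : i < 8192
  · exact allUp_spec autScan_3 i (by omega) (by norm_num; omega)
  by_cases h4 : i < 10240
  · exact allUp_spec autScan_4 i (by omega) (by norm_num; omega)
  by_cases h5 : i < 12288
  · exact allUp_spec autScan_5 i (by omega) (by norm_num; omega)
  by_cases h6 : i < 14336
  · exact allUp_spec autScan_6 i (by omega) (by norm_num; omega)
  by_cases h7 : i < 16384
  · exact allUp_spec autScan_7 i (by omega) (by norm_num; omega)
  by_cases h8 : i < 18432
  · exact allUp_spec autScan_8 i (by omega) (by norm_num; omega)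
  by_cases h9 : i < 20480
  · exact allUp_spec autScan_9 i (by omega) (by norm_num; omega)
  by_cases h10 : i < 22528
  · exact allUp_spec autScan_10 i (by omega) (by norm_num; omega)
  omega

end CfsgLib.HePres
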