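import Cfsg.Agent.Lib.HePres.Cent
import Cfsg.Agent.Lib.HePres.AutCheck
import Cfsg.Agent.Lib.HePres.AutScan
import Cfsg.Prelude.Def_KGroupFacts

/-!
The outer automorphism group of the presented Held group has order two.
-/

set_option autoImplicit false

namespace CfsgLib.HePres

open CfsgLib.CosetEnum Cfsg.Spor

theorem pt_lt (x : Fin certA.N) : (x : ℕ) < 2058 := lt_of_lt_of_eq x.2 centN

theorem allPts_spec {f : ℕ → Bool} (h : allPts f = true) (x : Fin certA.N) :
    f (x : ℕ) = true := by
  have := allUp_spec h x (Nat.zero_le _) (by have := pt_lt x; norm_num; omega)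
  rwa [show ltB (x : ℕ) 2058 = true from ltB_iff.mpr (pt_lt x), pick_true] at this

theorem rho_act {w : List ℕ} (hw : (w.all fun g => Nat.blt g 7) = true) (x : Fin certA.N) :
    (rho (prodW gen w) x : ℕ) = act w x := rho_word hw x

theorem eq_of_pts {g h : He} (e : ∀ x : Fin certA.N, (rho g x : ℕ) = rho h x) : g = h :=
  card_faithful.2 (Equiv.ext fun x => Fin.ext (e x))

theorem eq_of_bases {g h : He}
    (e : ∀ x : Fin certA.N, (∃ j < 5, (x : ℕ) = centBases.getD j 0) → (rho g x : ℕ) = rho h x) :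
    g = h := by
  refine inv_mul_eq_one.mp (eq_one_of_fixes fun k hk x hx => ?_)
  rw [map_mul, map_inv, Equiv.Perm.mul_apply, Equiv.Perm.inv_eq_iff_eq]
  exact Fin.ext (e x ⟨k, hk, hx⟩).symm

theorem basePts_spec {f : ℕ → Bool} (h : basePts f = true) {x : ℕ}
    (hx : ∃ j < 5, x = centBases.getD j 0) : f x = true := by
  obtain ⟨j, hj, rfl⟩ := hx
  exact List.all_eq_true.mp h j (List.mem_range.mpr hj)

theorem aux_letters : (autX.all fun g => Nat.blt g 7) = true ∧
    (autN.all fun g => Nat.blt g 7) = true ∧ (tauBack.all fun g => Nat.blt g 7) = true ∧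
    (tauWit.all fun g => Nat.blt g 7) = true ∧
    ∀ p ∈ autBack, (p.2.all fun g => Nat.blt g 7) = true := by
  have := aX_letters
  simp only [Bool.and_eq_true, List.all_eq_true] at this ⊢
  exact ⟨this.1.1.1.1, this.1.1.1.2, this.1.1.2, this.1.2, this.2⟩

/-- the element of order seventeen -/
noncomputable def xEl : He := prodW gen autX

/-- the second generator -/
noncomputable def yEl : He := gen 0

/-- normalizes `xEl` -/
noncomputable def nEl : He := prodW gen autN

theorem rho_x (p : Fin certA.N) : (rho xEl p : ℕ) = act autX p := rho_act aux_letters.1 p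

theorem rho_n (p : Fin certA.N) : (rho nEl p : ℕ) = act autN p := rho_act aux_letters.2.1 p

theorem rho_y (p : Fin certA.N) : (rho yEl p : ℕ) = act [0] p := by
  rw [← rho_act (w := [0]) (by decide) p]
  simp [yEl]

theorem rho_z (p : Fin certA.N) : (rho zEl p : ℕ) = act [4] p := rho_zEl p

theorem rho_pow (k : ℕ) : ∀ p : Fin certA.N, (rho (xEl ^ k) p : ℕ) = powAct k p := by
  induction k with
  | zero => intro p; simp [powAct]
  | succ k ih =>
    intro p
    rw [pow_succ, map_mul, Equiv.Perm.mul_apply, ih, rho_x]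
    rfl

theorem x_pow : xEl ^ 17 = 1 := eq_of_pts fun p => by
  rw [rho_pow, map_one, Equiv.Perm.one_apply]
  exact Nat.eq_of_beq_eq_true (allPts_spec aX_order p)

theorem x_fix (p : Fin certA.N) (h : rho xEl p = p) : (p : ℕ) = 0 := by
  have := allPts_spec aX_fix.1 p
  simp only [Bool.or_eq_true, Bool.not_eq_true'] at this
  rcases this with e | e
  · exact Nat.eq_of_beq_eq_true e
  · rw [← rho_x, h, Nat.beq_refl] at e
    cases e

theorem x_ne_one : xEl ≠ 1 := fun h => by
  have := x_fix ⟨1, by rw [centN]; norm_num⟩ (by rw [h, map_one, Equiv.Perm.one_apply])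
  exact Nat.one_ne_zero this

theorem z_sq : zEl * zEl = 1 := gen_sq 4

theorem z_x : zEl * xEl * zEl = xEl⁻¹ := by
  have h : xEl * zEl * xEl = zEl := eq_of_pts fun p => by
    rw [map_mul, map_mul, Equiv.Perm.mul_apply, Equiv.Perm.mul_apply, rho_x, rho_z, rho_x, rho_z]
    exact Nat.eq_of_beq_eq_true (allPts_spec aX_inv p)
  refine eq_inv_of_mul_eq_one_right ?_
  calc xEl * (zEl * xEl * zEl) = xEl * zEl * xEl * zEl := by simp only [mul_assoc]
    _ = 1 := by rw [h, z_sq]

theorem n_x : nEl * xEl = xEl ^ 2 * nEl := eq_of_bases fun p hp => by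
  rw [map_mul, map_mul, Equiv.Perm.mul_apply, Equiv.Perm.mul_apply, rho_pow, rho_n, rho_n, rho_x]
  exact Nat.eq_of_beq_eq_true (basePts_spec aN_sq hp)

theorem n_z : nEl * zEl = zEl * nEl := eq_of_bases fun p hp => by
  rw [map_mul, map_mul, Equiv.Perm.mul_apply, Equiv.Perm.mul_apply, rho_n, rho_z, rho_z, rho_n]
  exact Nat.eq_of_beq_eq_true (basePts_spec aN_z hp)

theorem y_z : yEl * zEl = zEl * yEl := eq_of_pts fun p => by
  rw [map_mul, map_mul, Equiv.Perm.mul_apply, Equiv.Perm.mul_apply, rho_y, rho_z, rho_z, rho_y]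
  exact Nat.eq_of_beq_eq_true (allPts_spec aY_z p)

/-- left to right product of a word in two elements -/
def relVal {G : Type*} [Group G] (a b : G) : List ℕ → G
  | [] => 1
  | c :: w => relVal a b w * (bif Nat.beq c 0 then a else b)

theorem map_relVal {G G' : Type*} [Group G] [Group G'] (f : G →* G') (a b : G) :
    ∀ w, f (relVal a b w) = relVal (f a) (f b) w
  | [] => by simp [relVal]
  | c :: w => by
    simp only [relVal, map_mul, map_relVal f a b w]
    cases Nat.beq c 0 <;> rfl

theorem rho_base : ∀ (w : List ℕ) (p : Fin certA.N),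
    (rho (relVal xEl yEl w) p : ℕ) = baseRun w p
  | [], p => by simp [relVal, baseRun]
  | c :: w, p => by
    simp only [relVal, baseRun]
    cases Nat.beq c 0
    · rw [cond_false, pick_false, map_mul, Equiv.Perm.mul_apply, rho_base w, rho_y]
    · rw [cond_true, pick_true, map_mul, Equiv.Perm.mul_apply, rho_base w, rho_x]

theorem rels_hold : ∀ r ∈ autRels, relVal xEl yEl r.1 ^ r.2 = 1 := by
  intro r hr
  have h := List.all_eq_true.mp aRels r hr
  have key : ∀ (m : ℕ) (p : Fin certA.N), (rho (relVal xEl yEl r.1 ^ m) p : ℕ) = baseIter r.1 m p := by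
    intro m
    induction m with
    | zero => intro p; simp [baseIter]
    | succ m ih =>
      intro p
      rw [pow_succ, map_mul, Equiv.Perm.mul_apply, ih, rho_base]
      rfl
  refine eq_of_pts fun p => ?_
  rw [key, map_one, Equiv.Perm.one_apply]
  exact Nat.eq_of_beq_eq_true (allPts_spec h p)

/-! ### Centralizer of `xEl` -/

theorem rho_backOf (v : ℕ) (p : Fin certA.N) :
    (rho (prodW gen (backOf v)) p : ℕ) = act (backOf v) p := by
  refine rho_act ?_ p
  unfold backOf
  cases h : autBack.find? fun q => Nat.beq q.1 v with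
  | none => rfl
  | some q => exact aux_letters.2.2.2.2 q (List.mem_of_find?_eq_some h)

theorem commute_x {g : He} (hg : g * xEl = xEl * g) : g ∈ Subgroup.zpowers xEl := by
  have hu := aU
  simp only [Bool.and_eq_true, Bool.or_eq_true, Bool.not_eq_true', List.all_eq_true,
    List.mem_range, List.any_eq_true, Nat.blt_eq, bne_iff_ne, ne_eq] at hu
  obtain ⟨⟨hul, hum⟩, hv⟩ := hu
  have comm : ∀ (g : He), g * xEl = xEl * g → ∀ (j : ℕ) (p : Fin certA.N),
      rho g (rho (xEl ^ j) p) = rho (xEl ^ j) (rho g p) := fun g hg j p => by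
    rw [← Equiv.Perm.mul_apply, ← Equiv.Perm.mul_apply, ← map_mul, ← map_mul,
      (Commute.pow_right hg j).eq]
  have h0 : rho g setupA.base = setupA.base := by
    refine Fin.ext ?_
    refine (x_fix _ ?_).trans rfl
    have e : rho (xEl ^ 1) setupA.base = setupA.base := by
      refine Fin.ext ?_
      rw [rho_pow]
      exact aX_fix.2
    have := comm g hg 1 setupA.base
    rw [e, pow_one] at this
    exact this.symm
  have hgH : g ∈ subA := (setupA.mem_iff g).mpr h0
  set u : Fin certA.N := ⟨autU, lt_of_lt_of_eq hul centN.symm⟩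
  set v := rho g u
  have hvm : subMask0.testBit (v : ℕ) = true := by
    rw [setupA.orbit_sub subMask0_orbit hgH u]; exact hum
  rcases hv v (pt_lt v) with h | ⟨hback, ⟨j, hj, hjv⟩ | ⟨i, hi, hne⟩⟩
  · rw [hvm] at h; cases h
  · have hh : (xEl ^ j)⁻¹ * g = 1 := by
      refine setupA.eq_one_of_fix_bases chainP_ok (chainP_size.trans card_faithful.1.symm) ?_
      intro l hl hb
      have hc : (xEl ^ j)⁻¹ * g * xEl = xEl * ((xEl ^ j)⁻¹ * g) :=
        (((Commute.refl xEl).pow_left j).inv_left.mul_left hg).eq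
      have hu' : rho ((xEl ^ j)⁻¹ * g) u = u := by
        rw [map_mul, map_inv, Equiv.Perm.mul_apply, Equiv.Perm.inv_eq_iff_eq]
        exact Fin.ext (by rw [rho_pow]; exact (Nat.eq_of_beq_eq_true hjv).symm)
      have hbases := List.all_eq_true.mp chainP_bases l hl
      simp only [Bool.or_eq_true, List.any_eq_true, List.mem_range] at hbases
      rcases hbases with e | ⟨k, -, e⟩
      · have e' : (⟨l.base, hb⟩ : Fin certA.N) = setupA.base := Fin.ext (Nat.eq_of_beq_eq_true e)
        rw [e', map_mul, map_inv, Equiv.Perm.mul_apply, h0, Equiv.Perm.inv_eq_iff_eq]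
        refine Fin.ext ?_
        rw [rho_pow]
        clear hjv hu' hc
        symm
        induction j with
        | zero => rfl
        | succ j ih =>
          show powAct j (act autX 0) = _
          rw [aX_fix.2]
          exact ih (by omega)
      · have e' : (⟨l.base, hb⟩ : Fin certA.N) = rho (xEl ^ k) u :=
          Fin.ext (by rw [rho_pow]; exact (Nat.eq_of_beq_eq_true e).symm)
        rw [e', comm _ hc k u, hu']
    rw [inv_mul_eq_one] at hh
    exact hh ▸ pow_mem (Subgroup.mem_zpowers xEl) j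
  · refine absurd ?_ hne
    set bu := prodW gen (backOf autU)
    set bv := prodW gen (backOf v)
    have hbu : rho bu u = setupA.base := by
      refine Fin.ext ?_
      rw [rho_backOf]
      rcases hv autU hul with h | ⟨h, -⟩
      · rw [hum] at h; cases h
      · exact Nat.eq_of_beq_eq_true h
    have hbv : rho bv v = setupA.base := by
      refine Fin.ext ?_
      rw [rho_backOf]
      exact Nat.eq_of_beq_eq_true hback
    have hmem : bv * g * bu⁻¹ ∈ subA := by
      rw [setupA.mem_iff, map_mul, map_mul, map_inv, Equiv.Perm.mul_apply, Equiv.Perm.mul_apply]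
      have : (rho bu)⁻¹ setupA.base = u := by rw [Equiv.Perm.inv_eq_iff_eq, hbu]
      rw [this]
      exact hbv
    have hvi : rho (xEl ^ i) v = rho g (rho (xEl ^ i) u) := (comm g hg i u).symm
    have key : ∀ m r, Suborbit certA r m →
        m.testBit (act (backOf autU) (powAct i autU)) = m.testBit (act (backOf v) (powAct i v)) := by
      intro m r o
      have := setupA.orbit_sub o hmem (rho bu (rho (xEl ^ i) u))
      rw [map_mul, map_mul, map_inv, Equiv.Perm.mul_apply, Equiv.Perm.mul_apply,
        Equiv.Perm.inv_def, Equiv.symm_apply_apply, ← hvi, rho_backOf, rho_backOf, rho_pow,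
        rho_pow] at this
      exact this.symm
    simp only [relBits, key _ _ subMask0_orbit, key _ _ subMask1_orbit, key _ _ subMask2_orbit,
      key _ _ subMask3_orbit]

/-! ### Generation -/

theorem prod_expX : ∀ w, prodW gen (expX w) ∈ Subgroup.closure ({xEl, yEl} : Set He)
  | [] => one_mem _
  | 0 :: w => by
    rw [expX, prodW_append]
    exact mul_mem (Subgroup.subset_closure (Or.inl rfl)) (prod_expX w)
  | 1 :: w => by
    rw [expX, prodW_cons]
    exact mul_mem (Subgroup.subset_closure (Or.inr rfl)) (prod_expX w)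
  | (n + 2) :: w => by
    rw [expX, prodW_append]
    · refine mul_mem ?_ (prod_expX w)
      have e : autX.reverse = certA.revInv autX := by decide +kernel
      rw [e, setupA.model.revInv_eq]
      exact inv_mem (Subgroup.subset_closure (Or.inl rfl))
    all_goals omega

theorem closure_xy : Subgroup.closure ({xEl, yEl} : Set He) = ⊤ := by
  rw [eq_top_iff, ← setupA.gen_top, Subgroup.closure_le]
  rintro _ ⟨g, hg, rfl⟩
  have h := List.all_eq_true.mp aGenW g (List.mem_range.mpr hg)
  rw [Bool.and_eq_true] at h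
  have e : prodW gen (expX (autGenW.getD g [])) = gen g := eq_of_bases fun p hp => by
    rw [rho_act h.1, show gen g = prodW gen [g] by simp, rho_act (by simp only [List.all_cons, List.all_nil, Bool.and_true, Nat.blt_eq]; exact hg)]
    exact Nat.eq_of_beq_eq_true (basePts_spec h.2 hp)
  exact e ▸ prod_expX _

/-! ### The action of a record -/

theorem desc_fst {q q' : He × CT} {i : ℕ} (h : Desc q i) (h' : Desc q' i) : q.1 = q'.1 := by
  have e : q.1⁻¹ * q'.1 = 1 := eq_one_of_fixes fun k hk p hp => by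
    rw [map_mul, map_inv, Equiv.Perm.mul_apply, Equiv.Perm.inv_eq_iff_eq]
    exact Fin.ext (by rw [h'.2.1 k hk p hp, h.2.1 k hk p hp])
  exact inv_mul_eq_one.mp e

theorem rho_cPerm : ∀ (n i : ℕ), i < 21504 → cRoot n i = true →
    ∀ q : He × CT, Desc q i → ∀ p : Fin certA.N, (rho q.1 p : ℕ) = cPerm n i p
  | 0, i, _, h, q, hq, p => by
    obtain rfl := Nat.eq_of_beq_eq_true h
    rw [desc_fst hq desc_one, Prod.fst_one, map_one, Equiv.Perm.one_apply]
    rfl
  | n + 1, i, hi, h, q, hq, p => by
    rw [cPerm]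
    cases h0 : Nat.beq i 0
    · rw [pick_false]
      simp only [cRoot, h0, Bool.false_or] at h
      rcases (cSpec hi).tree with rfl | ⟨hp, hn⟩
      · simp at h0
      · obtain ⟨q', hq', hd'⟩ := exists_pair _ (hp.trans hi)
        have hd := desc_step hd' (cLet i) (Nat.mod_lt _ two_pos)
        rw [hn] at hd
        rw [desc_fst hq hd, Prod.fst_mul, map_mul, Equiv.Perm.mul_apply]
        have ih := rho_cPerm n _ (hp.trans hi) h q' hd' p
        cases hl : Nat.beq (cLet i) 0
        · have : cLet i = 1 := by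
            have h2 : cLet i < 2 := Nat.mod_lt _ two_pos
            have : cLet i ≠ 0 := fun e => by rw [e] at hl; simp at hl
            omega
          rw [pick_false, this, show (genPair 1).1 = prodW gen centY from rfl, rhoY, ih]
        · rw [pick_true, Nat.eq_of_beq_eq_true hl, show (genPair 0).1 = prodW gen centX from rfl,
            rhoX, ih]
    · rw [pick_true]
      obtain rfl := Nat.eq_of_beq_eq_true h0
      rw [desc_fst hq desc_one, Prod.fst_one, map_one, Equiv.Perm.one_apply]

theorem rho_relRun {q : He × CT} {i : ℕ} (hq : Desc q i) (hr : cRoot 28 i = true) (k : ℕ) :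
    ∀ (w : List ℕ) (p : Fin certA.N),
      (rho (relVal (xEl ^ k) q.1 w) p : ℕ) = relRun k i w p
  | [], p => by simp [relVal, relRun]
  | c :: w, p => by
    simp only [relVal, relRun, strict_eq]
    cases Nat.beq c 0
    · rw [cond_false, pick_false, map_mul, Equiv.Perm.mul_apply, rho_relRun hq hr k w,
        rho_cPerm 28 i hq.1 hr q hq]
    · rw [cond_true, pick_true, map_mul, Equiv.Perm.mul_apply, rho_relRun hq hr k w, rho_pow]

theorem cand_unique {k : ℕ} (hk : k = 1 ∨ k = 3) {q : He × CT} {i : ℕ} (hq : Desc q i)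
    (hsq : q.1 * q.1 = 1) (hrel : ∀ r ∈ autRels, relVal (xEl ^ k) q.1 r.1 ^ r.2 = 1) :
    i = if k = 1 then 2 else 1765 := by
  have hs := autScan_all i hq.1
  unfold autScan at hs
  rw [show ltB i 21504 = true from ltB_iff.mpr hq.1, pick_true] at hs
  simp only [Bool.and_eq_true, Bool.or_eq_true, Bool.not_eq_true'] at hs
  obtain ⟨⟨hr, h1⟩, h3⟩ := hs
  have hc : autCand k i = true := by
    simp only [autCand, Bool.and_eq_true, List.all_eq_true, List.mem_range]
    refine ⟨fun j hj => ?_, fun r hrm j hj => ?_⟩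
    · have e : rho q.1 (rho q.1 ⟨_, bases_lt hj⟩) = ⟨_, bases_lt hj⟩ := by
        rw [← Equiv.Perm.mul_apply, ← map_mul, hsq, map_one, Equiv.Perm.one_apply]
      have e' := congrArg Fin.val e
      rw [rho_cPerm 28 i hq.1 hr q hq, hq.2.1 j hj _ rfl] at e'
      simp only at e'
      rw [e', Nat.beq_refl]
    · have key : ∀ (m : ℕ) (p : Fin certA.N),
          (rho (relVal (xEl ^ k) q.1 r.1 ^ m) p : ℕ) = iterRun k i r.1 m p := by
        intro m
        induction m with
        | zero => intro p; simp [iterRun]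
        | succ m ih =>
          intro p
          rw [pow_succ, map_mul, Equiv.Perm.mul_apply, ih, rho_relRun hq hr]
          simp [iterRun, strict_eq]
      have e := key r.2 ⟨_, bases_lt hj⟩
      rw [hrel r hrm, map_one, Equiv.Perm.one_apply] at e
      rw [← e, Nat.beq_refl]
  rcases hk with rfl | rfl
  · rcases h1 with h | h
    · rw [hc] at h; cases h
    · rw [if_pos rfl]; exact Nat.eq_of_beq_eq_true h
  · rcases h3 with h | h
    · rw [hc] at h; cases h
    · rw [if_neg (by norm_num)]; exact Nat.eq_of_beq_eq_true h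

/-! ### Automorphisms -/

instance fact17 : Fact (Nat.Prime 17) := ⟨by norm_num⟩

theorem x_order : orderOf xEl = 17 := orderOf_eq_prime x_pow x_ne_one

theorem conj_to_zpowers (g : He) (hg : orderOf g = 17) :
    ∃ c : He, ∃ k, 0 < k ∧ k < 17 ∧ c * g * c⁻¹ = xEl ^ k := by
  have hX : ¬ 17 ∣ (Subgroup.zpowers xEl).index := by
    have h := (Subgroup.zpowers xEl).card_mul_index
    rw [Nat.card_zpowers, x_order, card_faithful.1] at h
    have e : (Subgroup.zpowers xEl).index = 237081600 := by
      refine Nat.eq_of_mul_eq_mul_left (by norm_num : 0 < 17) (h.trans ?_)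
      norm_num
    rw [e]
    norm_num
  have hp : IsPGroup 17 (Subgroup.zpowers xEl) :=
    IsPGroup.of_card (n := 1) (by rw [Nat.card_zpowers, x_order, pow_one])
  have hgp : IsPGroup 17 (Subgroup.zpowers g) :=
    IsPGroup.of_card (n := 1) (by rw [Nat.card_zpowers, hg, pow_one])
  obtain ⟨P, hP⟩ := hgp.exists_le_sylow
  obtain ⟨c, hc⟩ := MulAction.exists_smul_eq He P (hp.toSylow hX)
  have hmem : MulAut.conj c g ∈ ((c • P : Sylow 17 He) : Subgroup He) := by
    rw [Sylow.coe_subgroup_smul]
    exact Subgroup.smul_mem_pointwise_smul _ (MulAut.conj c) _ (hP (Subgroup.mem_zpowers _))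
  rw [hc] at hmem
  obtain ⟨k, hk⟩ : c * g * c⁻¹ ∈ Submonoid.powers xEl :=
    (mem_powers_iff_mem_zpowers).mpr hmem
  refine ⟨c, k % 17, Nat.pos_of_ne_zero fun h => ?_, Nat.mod_lt _ (by norm_num), ?_⟩
  · have h1 : c * g * c⁻¹ = 1 := by
      rw [← hk]
      show xEl ^ k = 1
      rw [← pow_mod_orderOf, x_order, h, pow_zero]
    rw [conj_eq_one_iff] at h1
    rw [h1, orderOf_one] at hg
    norm_num at hg
  · rw [← hk, ← x_order, pow_mod_orderOf]

theorem inverting {k : ℕ} (hk0 : 0 < k) (hk : k < 17) {w : He} (hw : w * xEl ^ k * w = (xEl ^ k)⁻¹)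
    (hw2 : w * w = 1) : ∃ j, xEl ^ j * w * (xEl ^ j)⁻¹ = zEl := by
  have hw1 : w * xEl ^ k * w⁻¹ = (xEl ^ k)⁻¹ := by rw [inv_eq_of_mul_eq_one_right hw2, hw]
  obtain ⟨a, ha⟩ : ∃ a < 17, k * a % 17 = 1 := by
    revert hk0
    interval_cases k <;> decide
  have hwx : w * xEl * w⁻¹ = xEl⁻¹ := by
    have e : (xEl ^ k) ^ a = xEl := by
      rw [← pow_mul, ← pow_mod_orderOf, x_order, ha.2, pow_one]
    calc w * xEl * w⁻¹ = w * (xEl ^ k) ^ a * w⁻¹ := by rw [e]
      _ = (w * xEl ^ k * w⁻¹) ^ a := by rw [conj_pow]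
      _ = xEl⁻¹ := by rw [hw1, inv_pow, e]
  have hzw : (zEl * w) * xEl = xEl * (zEl * w) := by
    have hz : zEl * xEl⁻¹ = xEl * zEl := by
      rw [← z_x, ← mul_assoc, ← mul_assoc, z_sq, one_mul]
    calc zEl * w * xEl = zEl * (w * xEl * w⁻¹) * w := by group
      _ = xEl * (zEl * w) := by rw [hwx, hz, mul_assoc]
  obtain ⟨i, hi⟩ : zEl * w ∈ Submonoid.powers xEl :=
    (mem_powers_iff_mem_zpowers).mpr (commute_x hzw)
  have hi' : w = zEl * xEl ^ i := by
    show w = zEl * (fun n => xEl ^ n) i
    rw [hi, ← mul_assoc, z_sq, one_mul]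
  refine ⟨9 * i, ?_⟩
  have hzj : xEl ^ (9 * i) * zEl = zEl * (xEl ^ (9 * i))⁻¹ := by
    have : zEl * xEl ^ (9 * i) * zEl = (xEl ^ (9 * i))⁻¹ := by
      have e := conj_pow (i := 9 * i) (a := zEl) (b := xEl)
      rw [inv_eq_of_mul_eq_one_right z_sq] at e
      rw [← e, z_x, inv_pow]
    rw [← this, ← mul_assoc, ← mul_assoc, z_sq, one_mul]
  rw [hi', ← mul_assoc, hzj, mul_assoc, mul_assoc]
  convert mul_one zEl using 2
  rw [inv_mul_eq_one, eq_mul_inv_iff_mul_eq, ← pow_add, pow_eq_pow_iff_modEq, x_order]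
  show (9 * i + 9 * i) % 17 = i % 17
  omega

theorem n_pow (m : ℕ) : ∀ k, nEl ^ m * xEl ^ k * (nEl ^ m)⁻¹ = xEl ^ (k * 2 ^ m) := by
  induction m with
  | zero => intro k; simp
  | succ m ih =>
    intro k
    have e : nEl * xEl * nEl⁻¹ = xEl ^ 2 := by rw [n_x, mul_inv_cancel_right]
    calc nEl ^ (m + 1) * xEl ^ k * (nEl ^ (m + 1))⁻¹
        = nEl ^ m * (nEl * xEl * nEl⁻¹) ^ k * (nEl ^ m)⁻¹ := by
          rw [conj_pow, pow_succ]; group
      _ = xEl ^ (k * 2 ^ (m + 1)) := by
          rw [e, ← pow_mul, ih, show 2 * k * 2 ^ m = k * 2 ^ (m + 1) by ring]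

theorem n_pow_z (m : ℕ) : nEl ^ m * zEl * (nEl ^ m)⁻¹ = zEl := by
  rw [(Commute.pow_left n_z m).eq, mul_inv_cancel_right]

/-- every automorphism, up to an inner one, is one of two -/
theorem normal_form (α : MulAut He) : ∃ c : He, ∃ k, (k = 1 ∨ k = 3) ∧
    c * α xEl * c⁻¹ = xEl ^ k ∧ ∃ q : He × CT,
      Desc q (if k = 1 then 2 else 1765) ∧ c * α yEl * c⁻¹ = q.1 := by
  obtain ⟨c₀, k₀, hk0, hk17, hc₀⟩ := conj_to_zpowers (α xEl) (by rw [MulEquiv.orderOf_eq, x_order])
  set w := c₀ * α zEl * c₀⁻¹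
  have hw2 : w * w = 1 := by
    rw [show w * w = c₀ * (α zEl * α zEl) * c₀⁻¹ by simp [w, mul_assoc], ← map_mul, z_sq, map_one,
      mul_one, mul_inv_cancel]
  have hw : w * xEl ^ k₀ * w = (xEl ^ k₀)⁻¹ := by
    rw [← hc₀, show c₀ * α zEl * c₀⁻¹ * (c₀ * α xEl * c₀⁻¹) * (c₀ * α zEl * c₀⁻¹) =
      c₀ * (α zEl * α xEl * α zEl) * c₀⁻¹ by group, ← map_mul, ← map_mul, z_x, map_inv]
    group
  obtain ⟨j, hj⟩ := inverting hk0 hk17 hw hw2
  obtain ⟨m, k, hk, hkm⟩ : ∃ m k, (k = 1 ∨ k = 3) ∧ k₀ * 2 ^ m % 17 = k := by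
    have : ∃ m < 8, k₀ * 2 ^ m % 17 = 1 ∨ k₀ * 2 ^ m % 17 = 3 := by
      revert hk0
      interval_cases k₀ <;> decide
    obtain ⟨m, -, h⟩ := this
    exact ⟨m, _, h, rfl⟩
  set c := nEl ^ m * xEl ^ j * c₀
  have hcx : c * α xEl * c⁻¹ = xEl ^ k := by
    calc c * α xEl * c⁻¹ = nEl ^ m * (xEl ^ j * (c₀ * α xEl * c₀⁻¹) * (xEl ^ j)⁻¹) * (nEl ^ m)⁻¹ := by
          simp only [c]; group
      _ = xEl ^ (k₀ * 2 ^ m) := by
          rw [hc₀, ((Commute.refl xEl).pow_pow j k₀).eq, mul_inv_cancel_right, n_pow]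
      _ = xEl ^ k := by rw [← pow_mod_orderOf, x_order, hkm]
  have hcz : c * α zEl * c⁻¹ = zEl := by
    calc c * α zEl * c⁻¹ = nEl ^ m * (xEl ^ j * w * (xEl ^ j)⁻¹) * (nEl ^ m)⁻¹ := by
          simp only [c, w]; group
      _ = zEl := by rw [hj, n_pow_z]
  let β : He →* He := (MulAut.conj c).toMonoidHom.comp α.toMonoidHom
  have hβ : ∀ g, β g = c * α g * c⁻¹ := fun g => by
    simp only [β, MonoidHom.comp_apply, MulEquiv.toMonoidHom_eq_coe, MonoidHom.coe_coe,
      MulAut.conj_apply]
  have hyc : β yEl ∈ Subgroup.centralizer ({zEl} : Set He) := by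
    rw [Subgroup.mem_centralizer_singleton_iff]
    have := congrArg β y_z
    rwa [map_mul, map_mul, hβ zEl, hcz] at this
  rw [cent_eq] at hyc
  obtain ⟨⟨q, hq⟩, hqe⟩ := hyc
  change q.1 = β yEl at hqe
  obtain ⟨i, hd⟩ := exists_desc hq
  have hy2 : yEl * yEl = 1 := gen_sq 0
  have hi := cand_unique hk hd (by rw [hqe, ← map_mul, hy2, map_one])
    fun r hr => by
      have := congrArg β (rels_hold r hr)
      rwa [map_pow, map_relVal, map_one, hβ xEl, hcx, ← hqe] at this
  exact ⟨c, k, hk, hcx, q, hi ▸ hd, (hqe.trans (hβ yEl)).symm⟩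

theorem hom_ext {f g : He →* He} (hx : f xEl = g xEl) (hy : f yEl = g yEl) : f = g := by
  refine MonoidHom.eq_of_eqOn_top ?_
  rw [← closure_xy]
  refine MonoidHom.eqOn_closure ?_
  rintro v (rfl | rfl)
  · exact hx
  · exact hy

theorem inner_or_coset (α : MulAut He) :
    α ∈ Cfsg.Inn He ∨ ∃ c : He, c * α xEl * c⁻¹ = xEl ^ 3 ∧ ∃ q : He × CT,
      Desc q 1765 ∧ c * α yEl * c⁻¹ = q.1 := by
  obtain ⟨c, k, hk, hx, q, hd, hy⟩ := normal_form α
  rcases hk with rfl | rfl
  · left
    have hid : Desc q 2 := hd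
    -- the generator itself is record two
    have hyq : ∃ q : He × CT, Desc q 2 ∧ q.1 = yEl := by
      have hyc : yEl ∈ Subgroup.centralizer ({zEl} : Set He) :=
        Subgroup.mem_centralizer_singleton_iff.mpr y_z
      rw [cent_eq] at hyc
      obtain ⟨⟨q', hq'⟩, hqe'⟩ := hyc
      change q'.1 = yEl at hqe'
      obtain ⟨i, hd'⟩ := exists_desc hq'
      have := cand_unique (Or.inl rfl) hd' (by rw [hqe']; exact gen_sq 0)
        fun r hr => by rw [hqe', pow_one]; exact rels_hold r hr
      exact ⟨q', (this.trans (if_pos rfl)) ▸ hd', hqe'⟩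
    obtain ⟨q', hd', hqe'⟩ := hyq
    refine ⟨c⁻¹, MulEquiv.ext fun g => ?_⟩
    have e : (MulAut.conj c).toMonoidHom.comp α.toMonoidHom = MonoidHom.id He :=
      hom_ext (by simpa using hx) (by
        show c * α yEl * c⁻¹ = yEl
        rw [hy, desc_fst hid hd', hqe'])
    have := DFunLike.congr_fun e g
    change c * α g * c⁻¹ = g at this
    show c⁻¹ * g * c⁻¹⁻¹ = α g
    conv_lhs => rw [← this]
    group
  · exact Or.inr ⟨c, hx, q, hd, hy⟩

/-- the exchange on generators -/
def swapGen : He.Gen → He.Gen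
  | .f => .g
  | .g => .f
  | x => x

theorem swap_letters (g : ℕ) (hg : g < 7) :
    genOf letters (fun x => (PresentedGroup.of (swapGen x) : He)) g = gen (swapL g) := by
  interval_cases g <;> rfl

theorem swapL_lt {w : List ℕ} (hw : (w.all fun g => Nat.blt g 7) = true) :
    ((swapW w).all fun g => Nat.blt g 7) = true := by
  simp only [List.all_eq_true, swapW, List.mem_map, Nat.blt_eq] at hw ⊢
  rintro g ⟨h, hh, rfl⟩
  have := hw h hh
  interval_cases h <;> decide

theorem coxLabel_swap : ∀ x y : He.Gen,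
    coxLabel He.edges (swapGen x) (swapGen y) = coxLabel He.edges x y := by
  intro x y
  cases x <;> cases y <;> decide

/-- the exchange as an endomorphism -/
noncomputable def tauHom : He →* He :=
  PresentedGroup.toGroup (f := fun x => (PresentedGroup.of (swapGen x) : He)) (by
    rintro r (⟨x, -, y, -, rfl⟩ | hr)
    · simp only [map_pow, map_mul, FreeGroup.lift_apply_of]
      rw [← coxLabel_swap x y]
      exact of_pair (nodes _) (nodes _)
    · obtain ⟨k, hk, rfl⟩ := List.getElem_of_mem (show r ∈ He.extra from hr)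
      have hlen : He.extra.length = extraW.length := rfl
      have h2 := List.forall₂_iff_get.mp extraWords |>.2 k hk (hlen ▸ hk)
      simp only [List.get_eq_getElem] at h2
      rw [h2 He _ fun x => of_sq (nodes _)]
      have hw : ((extraW[k]'(hlen ▸ hk)).all fun g => Nat.blt g 7) = true :=
        List.all_eq_true.mp (show (extraW.all fun w => w.all fun g => Nat.blt g 7) = true by decide)
          _ (List.getElem_mem _)
      have e : prodW (genOf letters fun x => (PresentedGroup.of (swapGen x) : He))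
          (extraW[k]'(hlen ▸ hk)) = prodW gen (swapW (extraW[k]'(hlen ▸ hk))) := by
        rw [swapW, prodW, prodW, List.map_map]
        refine congrArg List.prod (List.map_congr_left fun g hg => ?_)
        have := List.all_eq_true.mp hw g hg
        rw [Nat.blt_eq] at this
        exact swap_letters g this
      rw [e]
      refine eq_of_pts fun p => ?_
      rw [rho_act (swapL_lt hw), map_one, Equiv.Perm.one_apply]
      exact Nat.eq_of_beq_eq_true
        (allPts_spec (List.all_eq_true.mp tau_rels _ (List.getElem_mem _)) p))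

theorem tauHom_of (x : He.Gen) :
    tauHom (PresentedGroup.of x) = (PresentedGroup.of (swapGen x) : He) :=
  PresentedGroup.toGroup.of _

theorem tauHom_tauHom (g : He) : tauHom (tauHom g) = g := by
  have e : tauHom.comp tauHom = MonoidHom.id He := by
    ext x
    simp only [MonoidHom.comp_apply, tauHom_of, MonoidHom.id_apply]
    cases x <;> rfl
  exact DFunLike.congr_fun e g

/-- the exchange as an automorphism -/
noncomputable def tauAut : MulAut He :=
  MonoidHom.toMulEquiv tauHom tauHom (MonoidHom.ext tauHom_tauHom) (MonoidHom.ext tauHom_tauHom)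

theorem tau_word {w : List ℕ} (hw : (w.all fun g => Nat.blt g 7) = true) :
    tauHom (prodW gen w) = prodW gen (swapW w) := by
  rw [map_prodW, swapW, prodW, prodW, List.map_map]
  refine congrArg List.prod (List.map_congr_left fun g hg => ?_)
  have := List.all_eq_true.mp hw g hg
  rw [Nat.blt_eq] at this
  show tauHom (gen g) = gen (swapL g)
  rw [← swap_letters g this]
  interval_cases g <;> exact tauHom_of _

theorem tau_not_inner : tauAut ∉ Cfsg.Inn He := by
  rintro ⟨c, hc⟩
  have hconj : ∀ w : List ℕ, (w.all fun g => Nat.blt g 7) = true →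
      c * prodW gen w * c⁻¹ = prodW gen (swapW w) := fun w hw => by
    rw [← tau_word hw]
    exact DFunLike.congr_fun hc (prodW gen w)
  have hp : (rho c setupA.base : ℕ) = tauPoint := by
    have h := List.all_eq_true.mp tau_fixed _ (List.mem_range.mpr (pt_lt (rho c setupA.base)))
    simp only [Bool.or_eq_true, List.any_eq_true, Bool.not_eq_true'] at h
    rcases h with e | ⟨w, hw, hne⟩
    · exact Nat.eq_of_beq_eq_true e
    · exfalso
      have hlt : (w.all fun g => Nat.blt g 7) = true := by
        simp only [List.all_eq_true, Nat.blt_eq]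
        exact fun g hg => lt_of_lt_of_eq (setupA.sub_lt hw g hg) rfl
      rw [← rho_act (swapL_lt hlt), ← hconj w hlt, map_mul, map_mul, Equiv.Perm.mul_apply,
        Equiv.Perm.mul_apply, map_inv, Equiv.Perm.inv_def, Equiv.symm_apply_apply,
        setupA.rho_fix (setupA.model.sub w hw), Nat.beq_refl] at hne
      cases hne
  have h := tau_wit
  simp only [Bool.and_eq_true, bne_iff_ne, ne_eq] at h
  refine h.2 ?_
  have hb : rho (prodW gen tauBack) (rho c setupA.base) = setupA.base := by
    refine Fin.ext ?_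
    rw [rho_act aux_letters.2.2.1, hp]
    exact Nat.eq_of_beq_eq_true h.1
  have hmem : prodW gen tauBack * c ∈ subA := by
    rw [setupA.mem_iff, map_mul, Equiv.Perm.mul_apply]
    exact hb
  have e := setupA.orbit_sub subMask0_orbit hmem (rho (prodW gen tauWit) setupA.base)
  rw [← Equiv.Perm.mul_apply, ← map_mul,
    show prodW gen tauBack * c * prodW gen tauWit =
      prodW gen tauBack * (c * prodW gen tauWit * c⁻¹) * c by group,
    hconj _ aux_letters.2.2.2.1, map_mul, map_mul, Equiv.Perm.mul_apply, Equiv.Perm.mul_apply,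
    rho_act aux_letters.2.2.1, rho_act (swapL_lt aux_letters.2.2.2.1), hp,
    rho_act aux_letters.2.2.2.1] at e
  exact e.symm

theorem card_out : Nat.card (Cfsg.Out He) = 2 := by
  rw [Nat.card_eq_two_iff]
  refine ⟨1, (tauAut : Cfsg.Out He), fun h => tau_not_inner ?_, ?_⟩
  · exact (QuotientGroup.eq_one_iff _).mp h.symm
  refine Set.eq_univ_of_forall fun a => ?_
  induction a using QuotientGroup.induction_on with
  | _ α =>
    rcases inner_or_coset α with h | ⟨c, hx, q, hd, hy⟩
    · exact Or.inl ((QuotientGroup.eq_one_iff _).mpr h)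
    rcases inner_or_coset tauAut with h' | ⟨c', hx', q', hd', hy'⟩
    · exact absurd h' tau_not_inner
    refine Or.inr ?_
    rw [Set.mem_singleton_iff]
    have e : (MulAut.conj c).toMonoidHom.comp α.toMonoidHom =
        (MulAut.conj c').toMonoidHom.comp tauAut.toMonoidHom :=
      hom_ext (hx.trans hx'.symm) (hy.trans ((desc_fst hd hd').trans hy'.symm))
    have hmul : MulAut.conj c * α = MulAut.conj c' * tauAut :=
      MulEquiv.ext fun g => DFunLike.congr_fun e g
    have h1 : ∀ d : He, ((MulAut.conj d : MulAut He) : Cfsg.Out He) = 1 :=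
      fun d => (QuotientGroup.eq_one_iff _).mpr ⟨d, rfl⟩
    have := congrArg (fun a : MulAut He => (a : Cfsg.Out He)) hmul
    simpa [h1] using this

end CfsgLib.HePres
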