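import Cfsg.Agent.Lib.HePres.CentDefs
import Cfsg.Agent.Lib.CosetEnum.Merge
import Cfsg.Agent.Lib.HePres.DataChainC

/-!
Checks for the centralizer of an involution.
-/

set_option autoImplicit false
set_option Elab.async false
set_option maxHeartbeats 4000000

namespace CfsgLib.HePres

open CfsgLib.CosetEnum

theorem cX_tab : allUp (fun x => pick (ltB x 2058)
    (Nat.beq (centXTab.at' 12 x) (certA.run x (certA.revInv centX))) true) 12 0 = true := by
  decide +kernel

theorem cY_tab : allUp (fun x => pick (ltB x 2058)
    (Nat.beq (centYTab.at' 12 x) (certA.run x (certA.revInv centY))) true) 12 0 = true := by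
  decide +kernel

theorem cZ_comm : allUp (fun x => pick (ltB x 2058)
    (Nat.beq (centXTab.at' 12 (certA.run x (certA.revInv [4])))
        (certA.run (centXTab.at' 12 x) (certA.revInv [4])) &&
      Nat.beq (centYTab.at' 12 (certA.run x (certA.revInv [4])))
        (certA.run (centYTab.at' 12 x) (certA.revInv [4]))) true) 12 0 = true := by
  decide +kernel

theorem cZ_ne : zFix 3 = false := by decide +kernel

theorem cBack_ok : ((List.range 5).all fun i =>
    Nat.beq (certA.run (centBases.getD i 0) (certA.revInv (centBack.getD i []))) 0) = true := by
  decide +kernel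

theorem cLetters : ((centX.all fun g => Nat.blt g 7) && (centY.all fun g => Nat.blt g 7) &&
    (centBack.all fun w => w.all fun g => Nat.blt g 7)) = true := by
  decide +kernel

theorem cBases_ok : (centBases.all fun b => Nat.blt b 2058) = true := by decide +kernel

theorem cRec_zero : (List.range 5).map (cImg 0) = centBases ∧ cMat 0 = fullCode 34944 := by
  decide +kernel

theorem cLevels : ((List.range 5).all cLevel) = true := by decide +kernel

theorem cMats : toM5 centMX * toM5 centMX * toM5 centMX * toM5 centMX * toM5 centMX * toM5 centMX *
      toM5 centMX = 1 ∧ toM5 centMY * toM5 centMY = 1 ∧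
    toM5 (fullCode 34944) = 1 ∧
    toM5 centMX * Matrix.transvection 0 1 1 = Matrix.transvection 0 1 1 * toM5 centMX ∧
    toM5 centMY * Matrix.transvection 0 1 1 = Matrix.transvection 0 1 1 * toM5 centMY := by
  decide +kernel

theorem chain_cent_ok : chainOK certA levelsC = true := by decide +kernel

theorem chain_cent_size : chainSize certA levelsC = 4030387200 := by decide +kernel

theorem chain_cent_basesB : (levelsC.all fun l =>
    (List.range 5).any fun k => Nat.beq (centBases.getD k 0) l.base) = true := by
  decide +kernel

theorem chain_cent_bases : ∀ l ∈ levelsC, ∃ k < 5, l.base = centBases.getD k 0 := by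
  intro l hl
  have h := chain_cent_basesB
  simp only [List.all_eq_true, List.any_eq_true, List.mem_range] at h
  obtain ⟨k, hk, e⟩ := h l hl
  exact ⟨k, hk, (Nat.eq_of_beq_eq_true e).symm⟩

end CfsgLib.HePres
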