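import Cfsg.Agent.Lib.HePres.CentDefs
import Cfsg.Agent.Lib.CosetEnum.Merge

/-!
Scans of the centralizer records, part 2.
-/

set_option autoImplicit false
set_option Elab.async false
set_option maxHeartbeats 4000000

namespace CfsgLib.HePres

open CfsgLib.CosetEnum

theorem cScan_8 : allUp cStep' 11 16384 = true := by decide +kernel
theorem cScan_9 : allUp cStep' 11 18432 = true := by decide +kernel
theorem cScan_10 : allUp cStep' 11 20480 = true := by decide +kernel
theorem cScan_11 : allUp cStep' 11 22528 = true := by decide +kernel

end CfsgLib.HePres
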