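import Cfsg.Agent.Lib.HePres.CentScan0
import Cfsg.Agent.Lib.HePres.CentScan1
import Cfsg.Agent.Lib.HePres.CentScan2
import Cfsg.Agent.Lib.HePres.CentScanBy0
import Cfsg.Agent.Lib.HePres.CentScanBy1
import Cfsg.Agent.Lib.HePres.CentScanBy2
import Cfsg.Agent.Lib.HePres.CentScanBy3

/-!
The scans, combined.
-/

set_option autoImplicit false

namespace CfsgLib.HePres

open CfsgLib.CosetEnum

theorem cStep'_all (i : ℕ) (hi : i < 21504) : cStep' i = true := by
  by_cases h0 : i < 2048
  · exact allUp_spec cScan_0 i (by omega) (by norm_num; omega)
  by_cases h1 : i < 4096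
  · exact allUp_spec cScan_1 i (by omega) (by norm_num; omega)
  by_cases h2 : i < 6144
  · exact allUp_spec cScan_2 i (by omega) (by norm_num; omega)
  by_cases h3 : i < 8192
  · exact allUp_spec cScan_3 i (by omega) (by norm_num; omega)
  by_cases h4 : i < 10240
  · exact allUp_spec cScan_4 i (by omega) (by norm_num; omega)
  by_cases h5 : i < 12288
  · exact allUp_spec cScan_5 i (by omega) (by norm_num; omega)
  by_cases h6 : i < 14336
  · exact allUp_spec cScan_6 i (by omega) (by norm_num; omega)
  by_cases h7 : i < 16384
  · exact allUp_spec cScan_7 i (by omega) (by norm_num; omega)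
  by_cases h8 : i < 18432
  · exact allUp_spec cScan_8 i (by omega) (by norm_num; omega)
  by_cases h9 : i < 20480
  · exact allUp_spec cScan_9 i (by omega) (by norm_num; omega)
  by_cases h10 : i < 22528
  · exact allUp_spec cScan_10 i (by omega) (by norm_num; omega)
  by_cases h11 : i < 24576
  · exact allUp_spec cScan_11 i (by omega) (by norm_num; omega)
  omega

theorem cBy_all (i : ℕ) (hi : i < 65536) : cBy i = true := by
  by_cases h0 : i < 4096
  · exact allUp_spec cByScan_0 i (by omega) (by norm_num; omega)
  by_cases h1 : i < 8192
  · exact allUp_spec cByScan_1 i (by omega) (by norm_num; omega)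
  by_cases h2 : i < 12288
  · exact allUp_spec cByScan_2 i (by omega) (by norm_num; omega)
  by_cases h3 : i < 16384
  · exact allUp_spec cByScan_3 i (by omega) (by norm_num; omega)
  by_cases h4 : i < 20480
  · exact allUp_spec cByScan_4 i (by omega) (by norm_num; omega)
  by_cases h5 : i < 24576
  · exact allUp_spec cByScan_5 i (by omega) (by norm_num; omega)
  by_cases h6 : i < 28672
  · exact allUp_spec cByScan_6 i (by omega) (by norm_num; omega)
  by_cases h7 : i < 32768
  · exact allUp_spec cByScan_7 i (by omega) (by norm_num; omega)
  by_cases h8 : i < 36864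
  · exact allUp_spec cByScan_8 i (by omega) (by norm_num; omega)
  by_cases h9 : i < 40960
  · exact allUp_spec cByScan_9 i (by omega) (by norm_num; omega)
  by_cases h10 : i < 45056
  · exact allUp_spec cByScan_10 i (by omega) (by norm_num; omega)
  by_cases h11 : i < 49152
  · exact allUp_spec cByScan_11 i (by omega) (by norm_num; omega)
  by_cases h12 : i < 53248
  · exact allUp_spec cByScan_12 i (by omega) (by norm_num; omega)
  by_cases h13 : i < 57344
  · exact allUp_spec cByScan_13 i (by omega) (by norm_num; omega)
  by_cases h14 : i < 61440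
  · exact allUp_spec cByScan_14 i (by omega) (by norm_num; omega)
  by_cases h15 : i < 65536
  · exact allUp_spec cByScan_15 i (by omega) (by norm_num; omega)
  omega

end CfsgLib.HePres
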