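import Cfsg.Agent.Lib.HePres.Main
import Cfsg.Agent.Lib.HePres.CentCheck
import Cfsg.Agent.Lib.HePres.CentScan
import Cfsg.Agent.Lib.CosetEnum.Bases

/-!
The centralizer of an involution of the presented Held group is that of a transvection of
`SL₅(2)`.
-/

set_option autoImplicit false

namespace CfsgLib.HePres

open CfsgLib.CosetEnum Cfsg.Spor Matrix

theorem centN : certA.N = 2058 := rfl

/-- the involution -/
def zEl : He := gen 4

theorem rho_word {w : List ℕ} (hw : (w.all fun g => Nat.blt g 7) = true) (x : Fin certA.N) :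
    (rho (prodW gen w) x : ℕ) = certA.run x (certA.revInv w) :=
  setupA.rho_prodW (fun g hg => by
    have := List.all_eq_true.mp hw g hg
    rw [Nat.blt_eq] at this
    exact lt_of_lt_of_eq this rfl) x

theorem rho_zEl (x : Fin certA.N) : (rho zEl x : ℕ) = certA.run x (certA.revInv [4]) := by
  rw [← rho_word (w := [4]) (by decide) x]
  simp [zEl]

theorem tabFact {t : PTab} {w : List ℕ}
    (h : allUp (fun x => pick (ltB x 2058)
      (Nat.beq (t.at' 12 x) (certA.run x (certA.revInv w))) true) 12 0 = true)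
    (hw : (w.all fun g => Nat.blt g 7) = true) (x : Fin certA.N) :
    (rho (prodW gen w) x : ℕ) = t.at' 12 x := by
  have hx : (x : ℕ) < 2058 := lt_of_lt_of_eq x.2 centN
  have := allUp_spec h x (Nat.zero_le _) (by norm_num; omega)
  rw [show ltB (x : ℕ) 2058 = true from ltB_iff.mpr hx, pick_true] at this
  rw [rho_word hw, ← Nat.eq_of_beq_eq_true this]

theorem letters_ok : (centX.all fun g => Nat.blt g 7) = true ∧
    (centY.all fun g => Nat.blt g 7) = true ∧
    ∀ w ∈ centBack, (w.all fun g => Nat.blt g 7) = true := by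
  have := cLetters
  simp only [Bool.and_eq_true, List.all_eq_true] at this ⊢
  exact ⟨this.1.1, this.1.2, this.2⟩

theorem rhoX (x : Fin certA.N) : (rho (prodW gen centX) x : ℕ) = centXTab.at' 12 x :=
  tabFact cX_tab letters_ok.1 x

theorem rhoY (x : Fin certA.N) : (rho (prodW gen centY) x : ℕ) = centYTab.at' 12 x :=
  tabFact cY_tab letters_ok.2.1 x

/-- the transvection -/
def transv : SL52 := ⟨Matrix.transvection 0 1 1, Matrix.det_transvection_of_ne 0 1 (by decide) 1⟩

/-- the centralizer of the transvection -/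
abbrev CT : Subgroup SL52 := Subgroup.centralizer {transv}

theorem mem_CT {t : SL52} : t ∈ CT ↔
    (t : Matrix (Fin 5) (Fin 5) (ZMod 2)) * Matrix.transvection 0 1 1 =
      Matrix.transvection 0 1 1 * (t : Matrix (Fin 5) (Fin 5) (ZMod 2)) := by
  rw [Subgroup.mem_centralizer_singleton_iff]
  exact Subtype.ext_iff

theorem det_eq_one (M : Matrix (Fin 5) (Fin 5) (ZMod 2)) {n : ℕ} (h : M ^ (n + 1) = 1) :
    M.det = 1 := by
  have h2 : M.det * M.det ^ n = 1 := by rw [← pow_succ', ← Matrix.det_pow, h, Matrix.det_one]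
  exact (by decide : ∀ x y : ZMod 2, x * y = 1 → x = 1) _ _ h2

/-- first generator of the model -/
def tX : SL52 := ⟨toM5 centMX, det_eq_one _ (n := 6) (by
  rw [pow_succ, pow_succ, pow_succ, pow_succ, pow_succ, pow_succ, pow_one]
  exact cMats.1)⟩

/-- second generator of the model -/
def tY : SL52 := ⟨toM5 centMY, det_eq_one _ (n := 1) (by rw [pow_two]; exact cMats.2.1)⟩

theorem tX_mem : tX ∈ CT := mem_CT.mpr cMats.2.2.2.1

theorem tY_mem : tY ∈ CT := mem_CT.mpr cMats.2.2.2.2

/-- the pair of generator number `a` -/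
noncomputable def genPair : ℕ → He × CT
  | 0 => (prodW gen centX, ⟨tX, tX_mem⟩)
  | _ => (prodW gen centY, ⟨tY, tY_mem⟩)

/-- the graph of the isomorphism -/
noncomputable def graphR : Subgroup (He × CT) := Subgroup.closure {genPair 0, genPair 1}

/-- record `i` describes `q` -/
def Desc (q : He × CT) (i : ℕ) : Prop :=
  i < 21504 ∧ (∀ k < 5, ∀ x : Fin certA.N, (x : ℕ) = centBases.getD k 0 →
      (rho q.1 x : ℕ) = cImg i k) ∧
    ((q.2 : SL52) : Matrix (Fin 5) (Fin 5) (ZMod 2)) = toM5 (cMat i)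

theorem bases_lt {k : ℕ} (hk : k < 5) : centBases.getD k 0 < certA.N := by
  have h := cBases_ok
  simp only [List.all_eq_true, Nat.blt_eq] at h
  have hl : k < centBases.length := lt_of_lt_of_eq hk rfl
  rw [List.getD_eq_getElem _ _ hl, centN]
  exact h _ (List.getElem_mem hl)

theorem desc_one : Desc 1 0 := by
  refine ⟨by norm_num, fun k hk x hx => ?_, ?_⟩
  · have h := cRec_zero.1
    have e : ((List.range 5).map (cImg 0)).getD k 0 = cImg 0 k := by
      rw [List.getD_eq_getElem _ _ (by simpa using hk)]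
      simp
    rw [Prod.fst_one, map_one, Equiv.Perm.one_apply, hx, ← e, h]
  · rw [cRec_zero.2, cMats.2.2.1]
    rfl

/-- the meaning of the scan -/
structure CRec (i : ℕ) : Prop where
  next : ∀ a < 2, cNext i a < 21504
  imgX : ∀ k < 5, cImg (cNext i 0) k = centXTab.at' 12 (cImg i k)
  imgY : ∀ k < 5, cImg (cNext i 1) k = centYTab.at' 12 (cImg i k)
  matX : cMat (cNext i 0) = mul5 centMX (cMat i)
  matY : cMat (cNext i 1) = mul5 centMY (cMat i)
  tree : i = 0 ∨ (cPar i < i ∧ cNext (cPar i) (cLet i) = i)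
  byMat : centBy.at' 16 ((centRec.at' 122 i >>> 60) % 65536) = i
  moved : i = 0 ∨ ∃ k < 5, cImg i k ≠ centBases.getD k 0

theorem cSpec {i : ℕ} (hi : i < 21504) : CRec i := by
  have h := cStep'_all i hi
  unfold cStep' at h
  rw [show ltB i 21504 = true from ltB_iff.mpr hi, pick_true] at h
  simp only [cStep, strict_eq, band_eq_true, List.all_eq_true, List.any_eq_true, List.mem_range,
    Bool.and_eq_true, Bool.or_eq_true, Bool.not_eq_true', ltB_iff] at h
  obtain ⟨⟨h1, h2⟩, h3, ⟨h4, h5⟩, h6, h7, h8⟩ := h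
  refine ⟨fun a ha => ?_, fun k hk => Nat.eq_of_beq_eq_true (h3 k hk).1,
    fun k hk => Nat.eq_of_beq_eq_true (h3 k hk).2, Nat.eq_of_beq_eq_true h4,
    Nat.eq_of_beq_eq_true h5, ?_, Nat.eq_of_beq_eq_true h7, ?_⟩
  · interval_cases a
    · exact h1
    · exact h2
  · rcases h6 with h | ⟨hp, hn⟩
    · exact Or.inl (Nat.eq_of_beq_eq_true h)
    · exact Or.inr ⟨hp, Nat.eq_of_beq_eq_true hn⟩
  · rcases h8 with h | ⟨k, hk, hne⟩
    · exact Or.inl (Nat.eq_of_beq_eq_true h)
    · exact Or.inr ⟨k, hk, fun e => by rw [e, Nat.beq_refl] at hne; cases hne⟩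

theorem desc_step {q : He × CT} {i : ℕ} (h : Desc q i) :
    ∀ a < 2, Desc (genPair a * q) (cNext i a) := by
  intro a ha
  have hs := cSpec h.1
  refine ⟨hs.next a ha, fun k hk x hx => ?_, ?_⟩
  · show (rho ((genPair a).1 * q.1) x : ℕ) = _
    rw [map_mul, Equiv.Perm.mul_apply]
    interval_cases a
    · rw [show (genPair 0).1 = prodW gen centX from rfl, rhoX, h.2.1 k hk x hx, hs.imgX k hk]
    · rw [show (genPair 1).1 = prodW gen centY from rfl, rhoY, h.2.1 k hk x hx, hs.imgY k hk]
  · interval_cases a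
    · rw [hs.matX, toM5_mul, ← h.2.2]
      rfl
    · rw [hs.matY, toM5_mul, ← h.2.2]
      rfl

theorem genPair_mem (a : ℕ) : genPair a ∈ graphR := by
  rcases a with _ | a
  · exact Subgroup.subset_closure (Or.inl rfl)
  · exact Subgroup.subset_closure (Or.inr rfl)

theorem exists_pair : ∀ i < 21504, ∃ q ∈ graphR, Desc q i := by
  intro i
  induction i using Nat.strong_induction_on with
  | _ i ih =>
    intro hi
    rcases (cSpec hi).tree with rfl | ⟨hp, hn⟩
    · exact ⟨1, one_mem _, desc_one⟩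
    · obtain ⟨q, hq, hd⟩ := ih _ hp (hp.trans hi)
      have := desc_step hd (cLet i) (Nat.mod_lt _ two_pos)
      rw [hn] at this
      exact ⟨_, mul_mem (genPair_mem _) hq, this⟩

theorem exists_desc {q : He × CT} (hq : q ∈ graphR) : ∃ i, Desc q i := by
  rw [graphR, ← Subgroup.mem_toSubmonoid, Subgroup.closure_toSubmonoid_of_finite] at hq
  induction hq using Submonoid.closure_induction_left with
  | one => exact ⟨0, desc_one⟩
  | mul_left x hx y _ ih =>
    obtain ⟨i, hi⟩ := ih
    rcases hx with rfl | rfl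
    · exact ⟨_, desc_step hi 0 two_pos⟩
    · exact ⟨_, desc_step hi 1 one_lt_two⟩

theorem eq_one_of_fixes {g : He}
    (h : ∀ k < 5, ∀ x : Fin certA.N, (x : ℕ) = centBases.getD k 0 → rho g x = x) : g = 1 := by
  refine setupA.eq_one_of_fix_bases chain_cent_ok (chain_cent_size.trans card_faithful.1.symm) ?_
  intro l hl hb
  obtain ⟨k, hk, e⟩ := chain_cent_bases l hl
  exact h k hk _ e

theorem eq_zero_of_fix {q : He × CT} {i : ℕ} (hd : Desc q i) (h1 : q.1 = 1) : i = 0 := by
  rcases (cSpec hd.1).moved with h | ⟨k, hk, hne⟩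
  · exact h
  · refine absurd ?_ hne
    rw [← hd.2.1 k hk ⟨_, bases_lt hk⟩ rfl, h1, map_one, Equiv.Perm.one_apply]

theorem shape_all (c : ℕ) (hc : c < 65536) : shapeOK c = true := by
  have h := cBy_all c hc
  simp only [cBy, strict_eq, band_eq_true] at h
  exact h.1

theorem fullCode_inj {i j : ℕ} (hi : i < 21504) (hj : j < 21504) (h : toM5 (cMat i) = toM5 (cMat j)) :
    i = j := by
  have key : ∀ c b, b < 16 → c < 65536 →
      bitZ (c.testBit b) = toM5 (fullCode c) (freeAt b).1 (freeAt b).2 := by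
    intro c b hb hc
    exact ((shape_entry (shape_all c hc)).2.2 b hb).symm
  have e : (centRec.at' 122 i >>> 60) % 65536 = (centRec.at' 122 j >>> 60) % 65536 := by
    refine Nat.eq_of_testBit_eq fun b => ?_
    by_cases hb : b < 16
    · have h1 := key _ b hb (Nat.mod_lt (centRec.at' 122 i >>> 60) (by norm_num))
      have h2 := key _ b hb (Nat.mod_lt (centRec.at' 122 j >>> 60) (by norm_num))
      rw [show toM5 (fullCode ((centRec.at' 122 i >>> 60) % 65536)) = toM5 (cMat i) from rfl, h,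
        show toM5 (cMat j) = toM5 (fullCode ((centRec.at' 122 j >>> 60) % 65536)) from rfl, ← h2] at h1
      exact (by decide : ∀ p q : Bool, bitZ p = bitZ q → p = q) _ _ h1
    · rw [show (65536 : ℕ) = 2 ^ 16 from rfl, Nat.testBit_mod_two_pow, Nat.testBit_mod_two_pow]
      simp [hb]
  rw [← (cSpec hi).byMat, ← (cSpec hj).byMat, e]

theorem graph_snd_eq_one {q : He × CT} (hq : q ∈ graphR) (h : q.1 = 1) : q.2 = 1 := by
  obtain ⟨i, hd⟩ := exists_desc hq
  obtain rfl := eq_zero_of_fix hd h
  refine Subtype.ext (Subtype.ext ?_)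
  rw [hd.2.2, cRec_zero.2, cMats.2.2.1]
  rfl

theorem graph_fst_eq_one {q : He × CT} (hq : q ∈ graphR) (h : q.2 = 1) : q.1 = 1 := by
  obtain ⟨i, hd⟩ := exists_desc hq
  have e : i = 0 := fullCode_inj hd.1 (by norm_num) (by
    rw [← hd.2.2, h, cRec_zero.2, cMats.2.2.1]
    rfl)
  subst e
  refine eq_one_of_fixes fun k hk x hx => Fin.ext ?_
  have h0 := desc_one.2.1 k hk x hx
  rw [Prod.fst_one, map_one, Equiv.Perm.one_apply] at h0
  rw [hd.2.1 k hk x hx, ← h0]

/-- projection to the group -/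
noncomputable def projHe : graphR →* He := (MonoidHom.fst He CT).comp graphR.subtype

/-- projection to the model -/
noncomputable def projT : graphR →* CT := (MonoidHom.snd He CT).comp graphR.subtype

theorem projHe_injective : Function.Injective projHe :=
  (injective_iff_map_eq_one _).mpr fun q h => Subtype.ext (Prod.ext h (graph_snd_eq_one q.2 h))

theorem projT_bijective : Function.Bijective projT := by
  refine ⟨(injective_iff_map_eq_one _).mpr fun q h => Subtype.ext (Prod.ext (graph_fst_eq_one q.2 h) h),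
    fun t => ?_⟩
  set M := (((t : SL52)) : Matrix (Fin 5) (Fin 5) (ZMod 2))
  have hM : M = toM5 (fullCode (freeCode M)) := by
    obtain ⟨h0, h1⟩ := central_form (mem_CT.mp t.2)
    exact eq_toM5 (shape_all _ (freeCode_lt M)) h0 h1
  have h := cBy_all _ (freeCode_lt M)
  simp only [cBy, strict_eq, band_eq_true] at h
  replace h := h.2
  cases hv : ltB (centBy.at' 16 (freeCode M)) 21504
  · rw [hv, pick_false] at h
    exact (not_kills hM h).elim
  · rw [hv, pick_true] at h
    have hlt := ltB_iff.mp hv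
    obtain ⟨q, hq, hd⟩ := exists_pair _ hlt
    refine ⟨⟨q, hq⟩, Subtype.ext (Subtype.ext ?_)⟩
    show ((q.2 : SL52) : Matrix (Fin 5) (Fin 5) (ZMod 2)) = M
    rw [hd.2.2, cMat, Nat.eq_of_beq_eq_true h, ← hM]

theorem projHe_commutes (q : graphR) : projHe q * zEl = zEl * projHe q := by
  have hgen : ∀ a, a < 2 → (genPair a).1 * zEl = zEl * (genPair a).1 := by
    intro a ha
    apply card_faithful.2
    refine Equiv.ext fun x => Fin.ext ?_
    have hx : (x : ℕ) < 2058 := lt_of_lt_of_eq x.2 centN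
    have hc := allUp_spec cZ_comm x (Nat.zero_le _) (by norm_num; omega)
    rw [show ltB (x : ℕ) 2058 = true from ltB_iff.mpr hx, pick_true, Bool.and_eq_true] at hc
    interval_cases a
    · rw [map_mul, map_mul, Equiv.Perm.mul_apply, Equiv.Perm.mul_apply,
        show (genPair 0).1 = prodW gen centX from rfl, rhoX, rho_zEl, rho_zEl, rhoX]
      exact Nat.eq_of_beq_eq_true hc.1
    · rw [map_mul, map_mul, Equiv.Perm.mul_apply, Equiv.Perm.mul_apply,
        show (genPair 1).1 = prodW gen centY from rfl, rhoY, rho_zEl, rho_zEl, rhoY]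
      exact Nat.eq_of_beq_eq_true hc.2
  obtain ⟨q, hq⟩ := q
  show q.1 * zEl = zEl * q.1
  induction hq using Subgroup.closure_induction with
  | mem y hy =>
    rcases hy with rfl | rfl
    · exact hgen 0 two_pos
    · exact hgen 1 one_lt_two
  | one => simp
  | mul a b _ _ ha hb => rw [Prod.fst_mul, mul_assoc, hb, ← mul_assoc, ha, mul_assoc]
  | inv a _ ha => exact (Commute.inv_left ha)

/-- an element of the group moving base point `i` to the first coset -/
noncomputable def backEl (i : ℕ) : He := prodW gen (centBack.getD i [])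

theorem backEl_spec {i : ℕ} (hi : i < 5) (y : Fin certA.N) :
    (rho (backEl i) y : ℕ) = certA.run y (certA.revInv (centBack.getD i [])) ∧
      rho (backEl i) ⟨_, bases_lt hi⟩ = setupA.base := by
  have hl : i < centBack.length := lt_of_lt_of_eq hi rfl
  have hw : ((centBack.getD i []).all fun g => Nat.blt g 7) = true := by
    rw [List.getD_eq_getElem _ _ hl]
    exact letters_ok.2.2 _ (List.getElem_mem hl)
  refine ⟨rho_word hw y, Fin.ext ?_⟩
  rw [backEl, rho_word hw]
  have h := cBack_ok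
  simp only [List.all_eq_true, List.mem_range] at h
  exact Nat.eq_of_beq_eq_true (h i hi)

theorem cRel_eq {i : ℕ} (hi : i < 5) {g : He}
    (hg : rho g ⟨_, bases_lt hi⟩ = ⟨_, bases_lt hi⟩) (y : Fin certA.N) :
    cRel i (rho g y) = cRel i y := by
  have hb := (backEl_spec hi y).2
  have hmem : backEl i * g * (backEl i)⁻¹ ∈ subA := by
    rw [setupA.mem_iff, map_mul, map_mul, map_inv, Equiv.Perm.mul_apply, Equiv.Perm.mul_apply]
    have e : (rho (backEl i))⁻¹ setupA.base = ⟨_, bases_lt hi⟩ := by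
      rw [Equiv.Perm.inv_eq_iff_eq, hb]
    rw [e, hg, hb]
  have key : ∀ m r, Suborbit certA r m →
      m.testBit (rho (backEl i) (rho g y) : ℕ) = m.testBit (rho (backEl i) y : ℕ) := by
    intro m r o
    rw [← setupA.orbit_sub o hmem (rho (backEl i) y), ← Equiv.Perm.mul_apply,
      ← Equiv.Perm.mul_apply, ← map_mul, ← map_mul]
    congr 4
    group
  simp only [cRel]
  rw [← (backEl_spec hi (rho g y)).1, ← (backEl_spec hi y).1]
  simp only [key _ _ subMask0_orbit, key _ _ subMask1_orbit, key _ _ subMask2_orbit,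
    key _ _ subMask3_orbit]

theorem cent_stage {j : ℕ} (hj : j < 5) {g : He} (hc : g * zEl = zEl * g)
    (hfix : ∀ k, ∀ hk : k < j, rho g ⟨_, bases_lt (hk.trans hj)⟩ = ⟨_, bases_lt (hk.trans hj)⟩) :
    ∃ h ∈ projHe.range, ∀ k, ∀ hk : k < j + 1,
      rho (h⁻¹ * g) ⟨_, bases_lt (lt_of_lt_of_le hk hj)⟩ = ⟨_, bases_lt (lt_of_lt_of_le hk hj)⟩ := by
  have hlev := cLevels
  simp only [List.all_eq_true, List.mem_range] at hlev
  have hl := hlev j hj
  simp only [cLevel, Bool.and_eq_true, List.all_eq_true, List.mem_range, Bool.or_eq_true,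
    List.any_eq_true, bne_iff_ne, ne_eq] at hl
  obtain ⟨hwit, hcand⟩ := hl
  set b : Fin certA.N := ⟨_, bases_lt hj⟩
  have hy : (rho g b : ℕ) < 2058 := lt_of_lt_of_eq (rho g b).2 centN
  have hz : zFix (rho g b) = zFix b := by
    have e : ∀ x : Fin certA.N, zFix x = decide (rho zEl x = x) := fun x => by
      rw [zFix, ← rho_zEl]
      by_cases hx : rho zEl x = x
      · simp [hx]
      · rw [decide_eq_false hx]
        exact Bool.eq_false_iff.mpr fun h => hx (Fin.ext (Nat.eq_of_beq_eq_true h))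
    rw [e, e, decide_eq_decide, ← Equiv.Perm.mul_apply, ← map_mul, ← hc, map_mul,
      Equiv.Perm.mul_apply, (rho g).injective.eq_iff]
  rcases hcand (rho g b) hy with (h | ⟨i, hi, h⟩) | ⟨p, hp, hpy⟩
  · exact absurd hz h
  · exact absurd (cRel_eq (hi.trans hj) (hfix i hi) b) h
  · obtain ⟨⟨h1, h2⟩, h3⟩ := hwit p hp
    obtain ⟨q, hq, hd⟩ := exists_pair _ (ltB_iff.mp h1)
    refine ⟨q.1, ⟨⟨q, hq⟩, rfl⟩, fun k hk => ?_⟩
    rw [map_mul, map_inv, Equiv.Perm.mul_apply, Equiv.Perm.inv_eq_iff_eq]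
    refine Fin.ext ?_
    rcases Nat.lt_succ_iff_lt_or_eq.mp hk with hlt | rfl
    · rw [hfix k hlt, hd.2.1 k (hlt.trans hj) _ rfl, Nat.eq_of_beq_eq_true (h3 k hlt)]
    · rw [hd.2.1 k hj _ rfl, Nat.eq_of_beq_eq_true h2, Nat.eq_of_beq_eq_true hpy]

theorem cent_eq : Subgroup.centralizer ({zEl} : Set He) = projHe.range := by
  refine le_antisymm ?_ ?_
  · have main : ∀ n, ∀ hn : n ≤ 5, ∀ g : He, g * zEl = zEl * g →
        ∃ h ∈ projHe.range, ∀ k, ∀ hk : k < n,
          rho (h⁻¹ * g) ⟨_, bases_lt (lt_of_lt_of_le hk hn)⟩ =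
            ⟨_, bases_lt (lt_of_lt_of_le hk hn)⟩ := by
      intro n
      induction n with
      | zero => exact fun _ g _ => ⟨1, one_mem _, fun k hk => absurd hk (Nat.not_lt_zero _)⟩
      | succ n ih =>
        intro hn g hg
        obtain ⟨h, hh, hf⟩ := ih (by omega) g hg
        obtain ⟨q, rfl⟩ := hh
        have hc : (projHe q)⁻¹ * g * zEl = zEl * ((projHe q)⁻¹ * g) := by
          rw [mul_assoc, hg, ← mul_assoc, (Commute.inv_left (projHe_commutes q)).eq, mul_assoc]
        obtain ⟨h', hh', hf'⟩ := cent_stage (j := n) (by omega) hc (fun k hk => hf k hk)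
        refine ⟨projHe q * h', mul_mem ⟨q, rfl⟩ hh', fun k hk => ?_⟩
        rw [_root_.mul_inv_rev, mul_assoc]
        exact hf' k hk
    intro g hg
    obtain ⟨h, hh, hf⟩ := main 5 le_rfl g (Subgroup.mem_centralizer_singleton_iff.mp hg)
    have e : h⁻¹ * g = 1 := eq_one_of_fixes fun k hk x hx => by
      obtain rfl : x = ⟨_, bases_lt hk⟩ := Fin.ext hx
      exact hf k hk
    rwa [inv_mul_eq_one.mp e] at hh
  · rintro _ ⟨q, rfl⟩
    exact Subgroup.mem_centralizer_singleton_iff.mpr (projHe_commutes q)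

theorem zEl_order : orderOf zEl = 2 := by
  refine orderOf_eq_prime (by rw [pow_two]; exact gen_sq 4) fun h => ?_
  have h3 : zFix 3 = true := by
    have := rho_zEl ⟨3, by rw [centN]; norm_num⟩
    rw [h, map_one, Equiv.Perm.one_apply] at this
    rw [zFix, ← this]
    exact Nat.beq_refl 3
  rw [cZ_ne] at h3
  exact Bool.false_ne_true h3

theorem involution_centralizer (s : SL52)
    (hs : (s : Matrix (Fin 5) (Fin 5) (ZMod 2)) = Matrix.transvection 0 1 1) :
    ∃ z : He, orderOf z = 2 ∧ Nonempty (↥(Subgroup.centralizer ({z} : Set He)) ≃*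
      ↥(Subgroup.centralizer ({s} : Set SL52))) := by
  obtain rfl : s = transv := Subtype.ext hs
  refine ⟨zEl, zEl_order, ⟨?_⟩⟩
  exact ((MulEquiv.subgroupCongr cent_eq).trans (MonoidHom.ofInjective projHe_injective).symm).trans
    (MulEquiv.ofBijective projT projT_bijective)

end CfsgLib.HePres
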