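import Mathlib

/-!
Five by five matrices over two elements as bit strings, and the centralizer of a transvection.
-/

set_option autoImplicit false

namespace CfsgLib.HePres

open Matrix

/-- a row, or nothing -/
def selRow (b : Bool) (r : ℕ) : ℕ := cond b r 0

/-- row `i` of a product -/
def mulRow (A N i : ℕ) : ℕ :=
  selRow (A.testBit (5 * i)) (N % 32) ^^^ selRow (A.testBit (5 * i + 1)) ((N >>> 5) % 32) ^^^
    selRow (A.testBit (5 * i + 2)) ((N >>> 10) % 32) ^^^
    selRow (A.testBit (5 * i + 3)) ((N >>> 15) % 32) ^^^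
    selRow (A.testBit (5 * i + 4)) ((N >>> 20) % 32)

/-- product -/
def mul5 (A N : ℕ) : ℕ :=
  mulRow A N 0 + 32 * mulRow A N 1 + 1024 * mulRow A N 2 + 32768 * mulRow A N 3 +
    1048576 * mulRow A N 4

/-- bit as an element of the field -/
def bitZ (b : Bool) : ZMod 2 := cond b 1 0

/-- matrix of a code -/
def toM5 (M : ℕ) : Matrix (Fin 5) (Fin 5) (ZMod 2) :=
  fun i j => bitZ (M.testBit (5 * i.val + j.val))

theorem mulRow_lt (A N i : ℕ) : mulRow A N i < 32 := by
  have h : ∀ b r, r < 32 → selRow b r < 2 ^ 5 := fun b r hr => by cases b <;> simp [selRow, hr]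
  have h' : ∀ x, x % 32 < 32 := fun x => Nat.mod_lt _ (by norm_num)
  exact Nat.xor_lt_two_pow (Nat.xor_lt_two_pow (Nat.xor_lt_two_pow (Nat.xor_lt_two_pow
    (h _ _ (h' _)) (h _ _ (h' _))) (h _ _ (h' _))) (h _ _ (h' _))) (h _ _ (h' _))

theorem testBit_digit {a m : ℕ} (ha : a < 32) (j : ℕ) (hj : j < 5) :
    (a + 32 * m).testBit j = a.testBit j := by
  rw [show a + 32 * m = 2 ^ 5 * m + a by ring, Nat.testBit_two_pow_mul_add _ ha, if_pos hj]

theorem testBit_skip {a m : ℕ} (ha : a < 32) (j : ℕ) :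
    (a + 32 * m).testBit (5 + j) = m.testBit j := by
  rw [show a + 32 * m = 2 ^ 5 * m + a by ring, Nat.testBit_two_pow_mul_add _ ha, if_neg (by omega)]
  congr 1
  omega

theorem testBit_pack (r : ℕ → ℕ) (hr : ∀ i, r i < 32) (i j : Fin 5) :
    (r 0 + 32 * r 1 + 1024 * r 2 + 32768 * r 3 + 1048576 * r 4).testBit (5 * i.val + j.val) =
      (r i.val).testBit j.val := by
  rw [show r 0 + 32 * r 1 + 1024 * r 2 + 32768 * r 3 + 1048576 * r 4 =
    r 0 + 32 * (r 1 + 32 * (r 2 + 32 * (r 3 + 32 * (r 4 + 32 * 0)))) by ring]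
  have hj := j.2
  fin_cases i <;> simp only [mul_zero, zero_add, mul_one]
  · exact testBit_digit (hr 0) _ hj
  · rw [testBit_skip (hr 0), testBit_digit (hr 1) _ hj]
  · rw [show 5 * 2 + j.val = 5 + (5 + j.val) by norm_num; ring, testBit_skip (hr 0),
      testBit_skip (hr 1), testBit_digit (hr 2) _ hj]
  · rw [show 5 * 3 + j.val = 5 + (5 + (5 + j.val)) by norm_num; ring,
      testBit_skip (hr 0), testBit_skip (hr 1), testBit_skip (hr 2), testBit_digit (hr 3) _ hj]
  · rw [show 5 * 4 + j.val = 5 + (5 + (5 + (5 + j.val))) by norm_num; ring,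
      testBit_skip (hr 0), testBit_skip (hr 1), testBit_skip (hr 2), testBit_skip (hr 3)]
    have := testBit_digit (m := 0) (hr 4) _ hj
    simpa using this

theorem toM5_mul (A N : ℕ) : toM5 (mul5 A N) = toM5 A * toM5 N := by
  have key : ∀ a b c d e p q r s t : Bool,
      bitZ (((((a && p) ^^ (b && q)) ^^ (c && r)) ^^ (d && s)) ^^ (e && t)) =
        bitZ a * bitZ p + bitZ b * bitZ q + bitZ c * bitZ r + bitZ d * bitZ s + bitZ e * bitZ t := by
    decide +kernel
  ext i j
  simp only [Matrix.mul_apply, Fin.sum_univ_five, toM5]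
  rw [mul5, testBit_pack _ (mulRow_lt A N) i j]
  have hs : ∀ (b : Bool) (k : ℕ), (selRow b ((N >>> k) % 32)).testBit j.val =
      (b && N.testBit (k + j.val)) := fun b k => by
    cases b
    · simp [selRow]
    · rw [selRow, cond_true, show (32 : ℕ) = 2 ^ 5 from rfl, Nat.testBit_mod_two_pow,
        Nat.testBit_shiftRight, decide_eq_true j.2, Bool.true_and]
  have h0 : ∀ b : Bool, (selRow b (N % 32)).testBit j.val = (b && N.testBit (0 + j.val)) :=
    fun b => by simpa using hs b 0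
  simp only [mulRow, Nat.testBit_xor, hs, h0, Fin.val_zero, Fin.val_one, mul_zero, zero_add,
    mul_one, add_zero]
  exact key _ _ _ _ _ _ _ _ _ _

/-- `SL₅(2)` -/
abbrev SL52 : Type := Matrix.SpecialLinearGroup (Fin 5) (ZMod 2)

theorem bitZ_decide (x : ZMod 2) : bitZ (decide (x = 1)) = x := by
  revert x
  decide

/-- the free entries of the centralizer of the transvection -/
def freeAt : ℕ → Fin 5 × Fin 5
  | 0 => (0, 1) | 1 => (0, 2) | 2 => (0, 3) | 3 => (0, 4)
  | 4 => (2, 1) | 5 => (3, 1) | 6 => (4, 1)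
  | 7 => (2, 2) | 8 => (2, 3) | 9 => (2, 4)
  | 10 => (3, 2) | 11 => (3, 3) | 12 => (3, 4)
  | 13 => (4, 2) | 14 => (4, 3) | _ => (4, 4)

/-- a free bit in place -/
def putBit (c b : ℕ) : ℕ :=
  cond (c.testBit b) (2 ^ (5 * (freeAt b).1.val + (freeAt b).2.val)) 0

/-- code of the matrix with the given free entries -/
def fullCode (c : ℕ) : ℕ :=
  65 + putBit c 0 + putBit c 1 + putBit c 2 + putBit c 3 + putBit c 4 + putBit c 5 + putBit c 6 +
    putBit c 7 + putBit c 8 + putBit c 9 + putBit c 10 + putBit c 11 + putBit c 12 + putBit c 13 +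
    putBit c 14 + putBit c 15

/-- the first `n` free entries of a matrix -/
def freeUpTo (M : Matrix (Fin 5) (Fin 5) (ZMod 2)) : ℕ → ℕ
  | 0 => 0
  | n + 1 => freeUpTo M n ||| cond (decide (M (freeAt n).1 (freeAt n).2 = 1)) (2 ^ n) 0

/-- the free entries of a matrix -/
def freeCode (M : Matrix (Fin 5) (Fin 5) (ZMod 2)) : ℕ := freeUpTo M 16

theorem testBit_freeUpTo (M : Matrix (Fin 5) (Fin 5) (ZMod 2)) (b : ℕ) :
    ∀ n, (freeUpTo M n).testBit b = (decide (b < n) && decide (M (freeAt b).1 (freeAt b).2 = 1))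
  | 0 => by simp [freeUpTo]
  | n + 1 => by
    rw [freeUpTo, Nat.testBit_or, testBit_freeUpTo M b n]
    rcases Nat.lt_trichotomy b n with h | rfl | h
    · cases decide (M (freeAt n).1 (freeAt n).2 = 1) <;>
        simp [h, Nat.lt_succ_of_lt h, Nat.testBit_two_pow, (Nat.ne_of_lt h).symm]
    · cases decide (M (freeAt b).1 (freeAt b).2 = 1) <;> simp [Nat.testBit_two_pow]
    · cases decide (M (freeAt n).1 (freeAt n).2 = 1) <;>
        simp [Nat.not_lt.mpr h.le, Nat.not_lt.mpr (Nat.succ_le_of_lt h), Nat.testBit_two_pow,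
          Nat.ne_of_lt h]

/-- fixed entries and free entries are in place -/
def shapeOK (c : ℕ) : Bool :=
  Nat.beq (fullCode c &&& 1083361) 65 && (List.range 16).all fun b =>
    (fullCode c).testBit (5 * (freeAt b).1.val + (freeAt b).2.val) == c.testBit b

/-- the kernel vector check -/
def killsB (M v : ℕ) : Bool :=
  (v % 32 != 0) && (List.range 5).all fun i =>
    !((((((M.testBit (5 * i) && v.testBit 0) ^^ (M.testBit (5 * i + 1) && v.testBit 1)) ^^
      (M.testBit (5 * i + 2) && v.testBit 2)) ^^ (M.testBit (5 * i + 3) && v.testBit 3)) ^^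
      (M.testBit (5 * i + 4) && v.testBit 4)))

theorem not_kills {t : SL52} {M v : ℕ} (hM : (t : Matrix (Fin 5) (Fin 5) (ZMod 2)) = toM5 M)
    (h : killsB M v = true) : False := by
  have key : ∀ a b c d e p q r s t : Bool,
      (((((a && p) ^^ (b && q)) ^^ (c && r)) ^^ (d && s)) ^^ (e && t)) = false →
        bitZ a * bitZ p + bitZ b * bitZ q + bitZ c * bitZ r + bitZ d * bitZ s + bitZ e * bitZ t = 0 := by
    decide +kernel
  simp only [killsB, Bool.and_eq_true, bne_iff_ne, ne_eq, List.all_eq_true, List.mem_range,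
    Bool.not_eq_true'] at h
  let w : Fin 5 → ZMod 2 := fun k => bitZ (v.testBit k.val)
  have hw : (t : Matrix (Fin 5) (Fin 5) (ZMod 2)) *ᵥ w = 0 := by
    funext i
    simp only [hM, mulVec, dotProduct, Fin.sum_univ_five, toM5, w, Pi.zero_apply]
    exact key _ _ _ _ _ _ _ _ _ _ (h.2 i.val i.2)
  have hw0 : w = 0 := by
    have := congrArg (fun x => ((t⁻¹ : SL52) : Matrix (Fin 5) (Fin 5) (ZMod 2)) *ᵥ x) hw
    simpa only [Matrix.mulVec_mulVec, ← Matrix.SpecialLinearGroup.coe_mul, inv_mul_cancel,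
      Matrix.SpecialLinearGroup.coe_one, Matrix.one_mulVec, Matrix.mulVec_zero] using this
  refine h.1 (Nat.eq_of_testBit_eq fun k => ?_)
  rw [show (32 : ℕ) = 2 ^ 5 from rfl, Nat.testBit_mod_two_pow, Nat.zero_testBit]
  by_cases hk : k < 5
  · have e := congrFun hw0 ⟨k, hk⟩
    simp only [w, Pi.zero_apply] at e
    cases hb : v.testBit k
    · simp
    · rw [hb] at e; exact absurd e one_ne_zero
  · simp [hk]

theorem freeUpTo_lt (M : Matrix (Fin 5) (Fin 5) (ZMod 2)) : ∀ n, freeUpTo M n < 2 ^ n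
  | 0 => by simp [freeUpTo]
  | n + 1 => by
    refine Nat.or_lt_two_pow ((freeUpTo_lt M n).trans_le (Nat.pow_le_pow_right two_pos n.le_succ)) ?_
    cases decide (M (freeAt n).1 (freeAt n).2 = 1)
    · exact Nat.two_pow_pos _
    · exact Nat.pow_lt_pow_right one_lt_two n.lt_succ_self

theorem freeCode_lt (M : Matrix (Fin 5) (Fin 5) (ZMod 2)) : freeCode M < 65536 :=
  freeUpTo_lt M 16

theorem positions : ∀ i j : Fin 5, j = 0 ∨ i = 1 ∨ ∃ b : Fin 16, freeAt b.val = (i, j) := by
  decide +kernel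

theorem shape_entry {c : ℕ} (h : shapeOK c = true) :
    (∀ i : Fin 5, toM5 (fullCode c) i 0 = if i = 0 then 1 else 0) ∧
    (∀ j : Fin 5, toM5 (fullCode c) 1 j = if j = 1 then 1 else 0) ∧
    ∀ b < 16, toM5 (fullCode c) (freeAt b).1 (freeAt b).2 = bitZ (c.testBit b) := by
  simp only [shapeOK, Bool.and_eq_true, List.all_eq_true, List.mem_range, beq_iff_eq] at h
  have hm := Nat.eq_of_beq_eq_true h.1
  have fixed : ∀ p, (1083361 : ℕ).testBit p = true → (fullCode c).testBit p = (65 : ℕ).testBit p := by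
    intro p hp
    rw [← hm, Nat.testBit_and, hp, Bool.and_true]
  refine ⟨fun i => ?_, fun j => ?_, fun b hb => ?_⟩
  · simp only [toM5]
    rw [fixed _ (by revert i; decide +kernel)]
    revert i
    decide +kernel
  · simp only [toM5]
    rw [fixed _ (by revert j; decide +kernel)]
    revert j
    decide +kernel
  · simp only [toM5, h.2 b hb]

theorem eq_toM5 {M : Matrix (Fin 5) (Fin 5) (ZMod 2)} (h : shapeOK (freeCode M) = true)
    (h0 : ∀ i, M i 0 = if i = 0 then 1 else 0) (h1 : ∀ j, M 1 j = if j = 1 then 1 else 0) :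
    M = toM5 (fullCode (freeCode M)) := by
  obtain ⟨e0, e1, eb⟩ := shape_entry h
  ext i j
  rcases positions i j with rfl | rfl | ⟨b, hb⟩
  · rw [h0, e0]
  · rw [h1, e1]
  · have e := eb b b.2
    rw [hb] at e
    rw [e, freeCode, testBit_freeUpTo, decide_eq_true b.2, Bool.true_and, hb, bitZ_decide]

/-- the forced form of the centralizer of the transvection -/
theorem central_form {t : SL52}
    (ht : (t : Matrix (Fin 5) (Fin 5) (ZMod 2)) * Matrix.transvection 0 1 1 =
      Matrix.transvection 0 1 1 * (t : Matrix (Fin 5) (Fin 5) (ZMod 2))) :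
    (∀ i, (t : Matrix (Fin 5) (Fin 5) (ZMod 2)) i 0 = if i = 0 then 1 else 0) ∧
      ∀ j, (t : Matrix (Fin 5) (Fin 5) (ZMod 2)) 1 j = if j = 1 then 1 else 0 := by
  set M := (t : Matrix (Fin 5) (Fin 5) (ZMod 2))
  have e : ∀ i j, (M * (Matrix.single 0 1 1 : Matrix (Fin 5) (Fin 5) (ZMod 2))) i j =
      ((Matrix.single 0 1 1 : Matrix (Fin 5) (Fin 5) (ZMod 2)) * M) i j := by
    intro i j
    have := congrFun (congrFun ht i) j
    simpa [Matrix.transvection, Matrix.mul_add, Matrix.add_mul] using this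
  have h1 : ∀ i, i ≠ 0 → M i 0 = 0 := fun i hi => by
    simpa [Matrix.mul_apply, Matrix.single_apply, hi, Ne.symm hi] using e i 1
  have h2 : ∀ j, j ≠ 1 → M 1 j = 0 := fun j hj => by
    simpa [Matrix.mul_apply, Matrix.single_apply, hj, Ne.symm hj] using (e 0 j).symm
  have h3 : M 0 0 = M 1 1 := by
    simpa [Matrix.mul_apply, Matrix.single_apply] using e 0 1
  have h4 : M 0 0 = 1 := by
    by_contra hne
    have h0 : M 0 0 = 0 := (by decide : ∀ x : ZMod 2, x ≠ 1 → x = 0) _ hne
    have hdet : M.det = 0 := Matrix.det_eq_zero_of_column_eq_zero 0 fun i => by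
      by_cases hi : i = 0
      · rw [hi]; exact h0
      · exact h1 i hi
    rw [show M.det = 1 from t.2] at hdet
    exact one_ne_zero hdet
  refine ⟨fun i => ?_, fun j => ?_⟩
  · by_cases hi : i = 0 <;> simp [hi, h1, h4]
  · by_cases hj : j = 1 <;> simp [hj, h2, ← h3, h4]

end CfsgLib.HePres
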