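import Cfsg.Agent.Lib.CosetEnum.Use
import Cfsg.Agent.Lib.HePres.DataA

/-!
Kernel checks of coset enumeration data, in small chunks.
-/

set_option autoImplicit false
set_option maxHeartbeats 4000000
set_option Elab.async false

namespace CfsgLib.HePres
open CfsgLib.CosetEnum

theorem certA_acts_9_0 : allUp certA.actOK' 9 0 = true := by decide +kernel
theorem certA_acts_9_1 : allUp certA.actOK' 9 512 = true := by decide +kernel
theorem certA_acts_9_2 : allUp certA.actOK' 9 1024 = true := by decide +kernel
theorem certA_acts_9_3 : allUp certA.actOK' 9 1536 = true := by decide +kernel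
theorem certA_acts_9_4 : allUp certA.actOK' 9 2048 = true := by decide +kernel
theorem certA_acts_9_5 : allUp certA.actOK' 9 2560 = true := by decide +kernel
theorem certA_acts_9_6 : allUp certA.actOK' 9 3072 = true := by decide +kernel
theorem certA_acts_9_7 : allUp certA.actOK' 9 3584 = true := by decide +kernel

end CfsgLib.HePres
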