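import Cfsg.Agent.Lib.CosetEnum.Use
import Cfsg.Agent.Lib.HePres.DataA

/-!
Kernel checks of coset enumeration data, in small chunks.
-/

set_option autoImplicit false
set_option maxHeartbeats 4000000
set_option Elab.async false

namespace CfsgLib.HePres
open CfsgLib.CosetEnum

theorem certA_nds_12_0 : allUp certA.ndImgOK' 12 0 = true := by decide +kernel

end CfsgLib.HePres
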