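import Cfsg.Agent.Lib.CosetEnum.Merge
import Cfsg.Agent.Lib.HePres.CheckA_step0
import Cfsg.Agent.Lib.HePres.CheckA_entry0
import Cfsg.Agent.Lib.HePres.CheckA_acts0
import Cfsg.Agent.Lib.HePres.CheckA_nds0
import Cfsg.Agent.Lib.HePres.CheckA_imgs0

/-!
The checks of the certificate, combined.
-/

set_option autoImplicit false

namespace CfsgLib.HePres
open CfsgLib.CosetEnum

theorem certA_step_12_0 : allUp certA.stepOK' 12 0 = true :=
  allUp_merge certA_step_11_0 certA_step_11_1
theorem certA_step_12_1 : allUp certA.stepOK' 12 4096 = true :=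
  allUp_merge certA_step_11_2 certA_step_11_3
theorem certA_step_12_2 : allUp certA.stepOK' 12 8192 = true :=
  allUp_merge certA_step_11_4 certA_step_11_5
theorem certA_step_12_3 : allUp certA.stepOK' 12 12288 = true :=
  allUp_merge certA_step_11_6 certA_step_11_7
theorem certA_step_12_4 : allUp certA.stepOK' 12 16384 = true :=
  allUp_merge certA_step_11_8 certA_step_11_9
theorem certA_step_12_5 : allUp certA.stepOK' 12 20480 = true :=
  allUp_merge certA_step_11_10 certA_step_11_11
theorem certA_step_12_6 : allUp certA.stepOK' 12 24576 = true :=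
  allUp_merge certA_step_11_12 certA_step_11_13
theorem certA_step_12_7 : allUp certA.stepOK' 12 28672 = true :=
  allUp_merge certA_step_11_14 certA_step_11_15
theorem certA_step_13_0 : allUp certA.stepOK' 13 0 = true :=
  allUp_merge certA_step_12_0 certA_step_12_1
theorem certA_step_13_1 : allUp certA.stepOK' 13 8192 = true :=
  allUp_merge certA_step_12_2 certA_step_12_3
theorem certA_step_13_2 : allUp certA.stepOK' 13 16384 = true :=
  allUp_merge certA_step_12_4 certA_step_12_5
theorem certA_step_13_3 : allUp certA.stepOK' 13 24576 = true :=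
  allUp_merge certA_step_12_6 certA_step_12_7
theorem certA_step_14_0 : allUp certA.stepOK' 14 0 = true :=
  allUp_merge certA_step_13_0 certA_step_13_1
theorem certA_step_14_1 : allUp certA.stepOK' 14 16384 = true :=
  allUp_merge certA_step_13_2 certA_step_13_3
theorem certA_step_15_0 : allUp certA.stepOK' 15 0 = true :=
  allUp_merge certA_step_14_0 certA_step_14_1
theorem certA_acts_10_0 : allUp certA.actOK' 10 0 = true :=
  allUp_merge certA_acts_9_0 certA_acts_9_1
theorem certA_acts_10_1 : allUp certA.actOK' 10 1024 = true :=
  allUp_merge certA_acts_9_2 certA_acts_9_3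
theorem certA_acts_10_2 : allUp certA.actOK' 10 2048 = true :=
  allUp_merge certA_acts_9_4 certA_acts_9_5
theorem certA_acts_10_3 : allUp certA.actOK' 10 3072 = true :=
  allUp_merge certA_acts_9_6 certA_acts_9_7
theorem certA_acts_11_0 : allUp certA.actOK' 11 0 = true :=
  allUp_merge certA_acts_10_0 certA_acts_10_1
theorem certA_acts_11_1 : allUp certA.actOK' 11 2048 = true :=
  allUp_merge certA_acts_10_2 certA_acts_10_3
theorem certA_acts_12_0 : allUp certA.actOK' 12 0 = true :=
  allUp_merge certA_acts_11_0 certA_acts_11_1
theorem certA_imgs_13_0 : allUp certA.imgOK' 13 0 = true :=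
  allUp_merge certA_imgs_12_0 certA_imgs_12_1

theorem certA_complete : certA.Complete :=
  Cert.complete_of _ 15 12 (by decide +kernel) certA_step_15_0 (by decide +kernel)
    certA_entry_12_0 (by decide +kernel)

theorem certA_action : certA.IsAction :=
  Cert.isAction_of _ 13 12 (by decide +kernel) (by decide +kernel) certA_acts_12_0
    certA_nds_12_0 (by decide +kernel) certA_imgs_13_0 (by decide +kernel)

end CfsgLib.HePres
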