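import Cfsg.Agent.Lib.HePres.AutCheck
import Cfsg.Agent.Lib.HePres.DataMult
import Cfsg.Agent.Lib.CosetEnum.Words

/-!
Checks for the multiplier of the presented Held group.
-/

set_option autoImplicit false
set_option Elab.async false
set_option maxRecDepth 20000
set_option maxHeartbeats 4000000

namespace CfsgLib.HePres

open CfsgLib.CosetEnum

/-- a word in the seven letters -/
noncomputable def lt7 (u : List ℕ) : Bool := u.all fun g => Nat.blt g 7

/-- two words with the same value -/
noncomputable def wEq (u v : List ℕ) : Bool :=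
  lt7 u && lt7 v && basePts fun x => Nat.beq (act u x) (act v x)

/-- two words with different values -/
noncomputable def wNe (u v : List ℕ) : Bool :=
  lt7 u && lt7 v &&
    (List.range 5).any fun j => !Nat.beq (act u (centBases.getD j 0)) (act v (centBases.getD j 0))

/-- a word for a generator of the table -/
def mulGen (j : ℕ) : List ℕ := mulGens.getD j []

/-- a word for a word in the generators of the table -/
def mulExp (v : List ℕ) : List ℕ := (v.map mulGen).flatten

/-- a representative of a class -/
def mulRep (c : ℕ) : List ℕ := mulReps.getD c []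

/-- the class of the element of a word -/
noncomputable def qOK (c : ℕ × List ℕ) (u : List ℕ) : Bool :=
  pick (Nat.ble 2 c.1) (wEq u [])
    (wEq (c.2 ++ u) (mulRep c.1 ++ c.2) && wEq (mulRep c.1 ++ mulRep c.1) [])

/-- three commuting involutions and the classes of their products -/
noncomputable def tripleOK (us : List (List ℕ)) (cs : List (ℕ × List ℕ)) : Bool :=
  let u := us.getD 0 []
  let v := us.getD 1 []
  let w := us.getD 2 []
  wEq (u ++ u) [] && wEq (v ++ v) [] && wEq (w ++ w) [] && wEq (v ++ u) (u ++ v) &&
    wEq (w ++ u) (u ++ w) && wEq (w ++ v) (v ++ w) &&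
    qOK (cs.getD 0 (2, [])) (u ++ v ++ w) && qOK (cs.getD 1 (2, [])) (u ++ v) &&
    qOK (cs.getD 2 (2, [])) (u ++ w) && qOK (cs.getD 3 (2, [])) (v ++ w) &&
    qOK (cs.getD 4 (2, [])) u && qOK (cs.getD 5 (2, [])) v && qOK (cs.getD 6 (2, [])) w

theorem mulTriple0_ok : tripleOK mulTriple0 mulTripleC0 = true ∧
    (List.range 7).map (fun i => (mulTripleC0.getD i (2, [])).1) = [1, 1, 1, 0, 0, 1, 0] := by
  decide +kernel

theorem mulTriple1_ok : tripleOK mulTriple1 mulTripleC1 = true ∧
    (List.range 7).map (fun i => (mulTripleC1.getD i (2, [])).1) = [0, 0, 0, 1, 1, 0, 1] := by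
  decide +kernel

theorem mulGens_ok : ((List.range 4).all fun j =>
    wEq (mulGen j ++ mulGen j) [] && qOK (mulGenC.getD j (2, [])) (mulGen j)) = true := by
  decide +kernel

theorem mulWords_ok : ((List.range mulWords.length).all fun i =>
    let v := (mulWords.getD i []).take ((mulWords.getD i []).length / 2)
    (mulWords.getD i [] == v ++ v) && wEq (mulExp v ++ mulExp v) [] &&
      qOK (mulHalfC.getD i (2, [])) (mulExp v)) = true := by
  decide +kernel

theorem mulTab_ok : mulTab.ok = true := by decide +kernel

/-- image of a base point under the element of a row of the table -/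
noncomputable def mulKey (t j : ℕ) : ℕ :=
  Nat.mod (Nat.shiftRight (mulKeys.at' (nat_lit 60) t) (Nat.mul (nat_lit 12) j)) (nat_lit 4096)

/-- one row of the table -/
noncomputable def sylRow (t : ℕ) : Bool :=
  Nat.ble (Nat.succ (mulKeys.at' (nat_lit 60) t)) (nat_lit 1152921504606846976) &&
    Nat.beq (mulSrt.at' (nat_lit 11) (mulRank.at' (nat_lit 11) t)) t &&
    ltB (mulRank.at' (nat_lit 11) t) 1024 &&
    pick (Nat.beq t 1023) true (ltB (mulKeys.at' (nat_lit 60) (mulSrt.at' (nat_lit 11) t))
      (mulKeys.at' (nat_lit 60) (mulSrt.at' (nat_lit 11) (t + 1)))) &&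
    (List.range 5).all fun j => pick (Nat.beq t 0) (Nat.beq (mulKey t j) (centBases.getD j 0))
      (ltB (mulTree.getD (t - 1) (0, 0)).2 t &&
        Nat.beq (act (mulGen (mulTree.getD (t - 1) (0, 0)).1) (mulKey (mulTree.getD (t - 1) (0, 0)).2 j))
          (mulKey t j))

theorem mulRows0 : allUp sylRow 8 0 = true := by decide +kernel
theorem mulRows1 : allUp sylRow 8 256 = true := by decide +kernel
theorem mulRows2 : allUp sylRow 8 512 = true := by decide +kernel
theorem mulRows3 : allUp sylRow 8 768 = true := by decide +kernel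

/-- the checks of the Sylow 5-subgroup -/
noncomputable def fiveOK : Bool :=
  let a := fiveA.getD 0 []
  let b := fiveA.getD 1 []
  wEq (fiveT ++ a) (powWord a 4 ++ fiveT) && wEq (fiveT ++ b) (powWord b 4 ++ fiveT) &&
    wEq (powWord a 5) [] && wEq (powWord b 5) [] && wEq (a ++ b) (b ++ a) &&
    wEq (fiveW ++ a) (a ++ fiveW) && wEq (fiveW ++ b) (powWord b 4 ++ fiveW) &&
    (List.range 5).all fun i => (List.range 5).all fun j =>
      (Nat.beq i 0 && Nat.beq j 0) || wNe (powWord a i ++ powWord b j) []

theorem five_ok : fiveOK = true := by decide +kernel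

/-- the commutator of two words -/
def commW (x y : List ℕ) : List ℕ := x ++ y ++ x.reverse ++ y.reverse

/-- the checks of an extraspecial Sylow subgroup -/
noncomputable def extraOK (ℓ : ℕ) (x y g h : List ℕ) (i k i' k' : ℕ) : Bool :=
  wEq (x ++ y) (commW x y ++ (y ++ x)) && wEq (powWord x ℓ) [] && wEq (powWord y ℓ) [] &&
    wEq (powWord (commW x y) ℓ) [] && wEq (x ++ commW x y) (commW x y ++ x) &&
    wEq (y ++ commW x y) (commW x y ++ y) && wNe (commW x y) [] &&
    wEq (g ++ x) (powWord x i ++ g) && wEq (g ++ commW x y) (powWord (commW x y) k ++ g) &&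
    wEq (h ++ y) (powWord y i' ++ h) && wEq (h ++ commW x y) (powWord (commW x y) k' ++ h)

theorem three_ok : extraOK 3 threeX threeY threeG threeH 2 1 1 2 = true := by decide +kernel

theorem seven_ok : extraOK 7 sevenX sevenY sevenG sevenH 4 4 1 6 = true := by decide +kernel

end CfsgLib.HePres
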