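import Cfsg.Agent.Lib.HePres.Aut
import Cfsg.Agent.Lib.HePres.MultCheck
import Cfsg.Agent.Lib.Schur.InvolutionLift
import Cfsg.Agent.Lib.Schur.ExtraPrime
import Cfsg.Agent.Lib.Golay.Mult.Odd

/-!
The Schur multiplier of the presented Held group is trivial.
-/

set_option autoImplicit false

namespace CfsgLib.HePres

open CfsgLib.CosetEnum CfsgLib.Schur CfsgLib.Schur.InvolLift Cfsg.Spor

theorem lt7_iff {u : List ℕ} : lt7 u = (u.all fun g => Nat.blt g 7) := rfl

theorem wEq_spec {u v : List ℕ} (h : wEq u v = true) : prodW gen u = prodW gen v := by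
  simp only [wEq, Bool.and_eq_true] at h
  refine eq_of_bases fun p hp => ?_
  rw [rho_act h.1.1, rho_act h.1.2]
  exact Nat.eq_of_beq_eq_true (basePts_spec h.2 hp)

theorem wNe_spec {u v : List ℕ} (h : wNe u v = true) : prodW gen u ≠ prodW gen v := by
  simp only [wNe, Bool.and_eq_true, List.any_eq_true, List.mem_range, Bool.not_eq_true'] at h
  obtain ⟨⟨hu, hv⟩, j, hj, hne⟩ := h
  intro e
  have := congrArg (fun g => ((rho g ⟨centBases.getD j 0, bases_lt hj⟩ : Fin certA.N) : ℕ)) e
  simp only [rho_act hu, rho_act hv] at this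
  rw [this, Nat.beq_refl] at hne
  cases hne

theorem card_He : Nat.card He = 4030387200 := card_faithful.1

/-! ### Odd primes -/

theorem extra_false {ℓ : ℕ} (hℓ : ℓ.Prime) {x y g h : List ℕ} {i k i' k' : ℕ}
    (hok : extraOK ℓ x y g h i k i' k' = true) (hik : i * k % ℓ ≠ 1) (hik' : i' * k' % ℓ ≠ 1)
    (hG : ¬ ℓ ^ 4 ∣ 4030387200) {E : Type} [Group E] [Finite E] {τ : E →* He}
    (hτ : Cfsg.IsStemExtension τ) (hk : Nat.card τ.ker = ℓ) : False := by
  simp only [extraOK, Bool.and_eq_true] at hok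
  obtain ⟨⟨⟨⟨⟨⟨⟨⟨⟨⟨e1, e2⟩, e3⟩, e4⟩, e5⟩, e6⟩, e7⟩, e8⟩, e9⟩, e10⟩, e11⟩ := hok
  have h1 := wEq_spec e1
  have h2 := wEq_spec e2
  have h3 := wEq_spec e3
  have h4 := wEq_spec e4
  have h5 := wEq_spec e5
  have h6 := wEq_spec e6
  have h7 := wNe_spec e7
  have h8 := wEq_spec e8
  have h9 := wEq_spec e9
  have h10 := wEq_spec e10
  have h11 := wEq_spec e11
  simp only [prodW_append, prodW_powWord, prodW_nil] at h1 h2 h3 h4 h5 h6 h7 h8 h9 h10 h11
  exact ExtraPrime.no_stem hℓ hτ hk h1 h2 h3 h4 h5 h6 h7 h8 h9 hik h10 h11 hik'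
    (by rw [card_He]; exact hG)

theorem five_false {E : Type} [Group E] [Finite E] {τ : E →* He} (hτ : Cfsg.IsStemExtension τ)
    (hk : Nat.card τ.ker = 5) : False := by
  classical
  have hok := five_ok
  simp only [fiveOK, Bool.and_eq_true, List.all_eq_true, List.mem_range, Bool.or_eq_true] at hok
  obtain ⟨⟨⟨⟨⟨⟨⟨e1, e2⟩, e3⟩, e4⟩, e5⟩, e6⟩, e7⟩, e8⟩ := hok
  have h1 := wEq_spec e1
  have h2 := wEq_spec e2
  have h3 := wEq_spec e3
  have h4 := wEq_spec e4
  have h5 := wEq_spec e5
  have h6 := wEq_spec e6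
  have h7 := wEq_spec e7
  simp only [prodW_append, prodW_powWord, prodW_nil] at h1 h2 h3 h4 h5 h6 h7
  set t := prodW gen fiveT
  set w := prodW gen fiveW
  let a : Fin 2 → He := fun i => prodW gen (fiveA.getD i [])
  have hinv : ∀ u : He, u ^ 5 = 1 → u ^ 4 = u⁻¹ := fun u hu =>
    eq_inv_of_mul_eq_one_left (by rw [← pow_succ, hu])
  have ha5 : ∀ i, a i ^ 5 = 1 := fun i => by fin_cases i <;> first | exact h3 | exact h4
  have hta : ∀ i, t * a i * t⁻¹ = (a i)⁻¹ := fun i => by
    rw [← hinv _ (ha5 i), mul_inv_eq_iff_eq_mul]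
    fin_cases i <;> first | exact h1 | exact h2
  have hfi : FixInvert (a 0) (a 1) := ⟨w, by rw [mul_inv_eq_iff_eq_mul]; exact h6, by
    rw [← hinv _ (ha5 1), mul_inv_eq_iff_eq_mul]; exact h7⟩
  let f : Fin 5 × Fin 5 → Subgroup.closure (Set.range a) := fun p =>
    ⟨a 0 ^ (p.1 : ℕ) * a 1 ^ (p.2 : ℕ), mul_mem (pow_mem (Subgroup.subset_closure (Set.mem_range_self 0)) _)
      (pow_mem (Subgroup.subset_closure (Set.mem_range_self 1)) _)⟩
  have hf : Function.Injective f := by
    rintro ⟨i, j⟩ ⟨i', j'⟩ e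
    have e' : a 0 ^ (i : ℕ) * a 1 ^ (j : ℕ) = a 0 ^ (i' : ℕ) * a 1 ^ (j' : ℕ) := congrArg Subtype.val e
    by_contra hne
    have hc : Commute (a 0) (a 1) := h5
    set i₀ := ((i : ℕ) + (5 - (i' : ℕ))) % 5 with hi₀
    set j₀ := ((j : ℕ) + (5 - (j' : ℕ))) % 5 with hj₀
    rcases e8 i₀ (Nat.mod_lt _ (by norm_num)) j₀ (Nat.mod_lt _ (by norm_num)) with h | h
    · apply hne
      have hi := Nat.eq_of_beq_eq_true h.1
      have hj := Nat.eq_of_beq_eq_true h.2
      simp only [i₀, j₀] at hi hj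
      exact Prod.ext (Fin.ext (show (i : ℕ) = i' by omega)) (Fin.ext (show (j : ℕ) = j' by omega))
    · refine wNe_spec h ?_
      simp only [prodW_append, prodW_powWord, prodW_nil]
      show a 0 ^ i₀ * a 1 ^ j₀ = 1
      rw [hi₀, hj₀, ← pow_eq_pow_mod _ (ha5 0), ← pow_eq_pow_mod _ (ha5 1), pow_add, pow_add,
        mul_assoc, ← mul_assoc (a 0 ^ (5 - (i' : ℕ))), (hc.pow_pow _ _).eq, mul_assoc, ← mul_assoc,
        e', mul_assoc, ← mul_assoc (a 1 ^ (j' : ℕ)), ← (hc.pow_pow _ _).eq, mul_assoc, ← pow_add,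
        ← mul_assoc, ← pow_add, show (i' : ℕ) + (5 - i') = 5 by omega,
        show (j' : ℕ) + (5 - j') = 5 by omega, ha5, ha5, one_mul]
  refine no_stem_of_two_abelian (ℓ := 5) Nat.prime_five (by norm_num) hτ hk a
    (fun e : Empty => e.elim) t 1 hta (fun e => e.elim) (fun e => e.elim) ha5 (fun e => e.elim)
    ?_ (fun e => e.elim) ?_ (fun e => e.elim) (fun e => e.elim) (k := 2) (l := 0) ?_ ?_ ?_
  · intro i i'
    fin_cases i <;> fin_cases i' <;> first | rfl | exact h5 | exact h5.symm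
  · intro i i' hne
    fin_cases i <;> fin_cases i' <;> first | exact absurd rfl hne | exact Or.inl hfi | exact Or.inr hfi
  · refine le_trans (le_of_eq ?_) (Nat.card_le_card_of_injective f hf)
    simp
  · rw [pow_zero]; exact Nat.card_pos
  · rw [card_He]; decide

/-! ### The prime two -/

theorem qOK_spec {E : Type} [Group E] {τ : E →* He} (D : Double τ) {c : ℕ × List ℕ} {u : List ℕ}
    (h : qOK c u = true) :
    prodW gen u * prodW gen u = 1 ∧ D.q (prodW gen u) =
      (if c.1 = 0 then D.q (prodW gen (mulRep 0)) else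
        if c.1 = 1 then D.q (prodW gen (mulRep 1)) else 1) := by
  rw [qOK] at h
  cases hb : Nat.ble 2 c.1
  · rw [hb, pick_false, Bool.and_eq_true] at h
    have h1 := wEq_spec h.1
    have h2 := wEq_spec h.2
    simp only [prodW_append, prodW_nil] at h1 h2
    have hsq : prodW gen u * prodW gen u = 1 := by
      have e : prodW gen u = (prodW gen c.2)⁻¹ * prodW gen (mulRep c.1) * prodW gen c.2 := by
        rw [mul_assoc, ← h1, inv_mul_cancel_left]
      rw [e]
      calc _ = (prodW gen c.2)⁻¹ * (prodW gen (mulRep c.1) * prodW gen (mulRep c.1)) * prodW gen c.2 := by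
            group
        _ = 1 := by rw [h2]; group
    refine ⟨hsq, ?_⟩
    rw [← D.q_conj h1 hsq]
    have hc : c.1 < 2 := by
      by_contra hc
      rw [Nat.ble_eq_true_of_le (by omega)] at hb
      cases hb
    rcases (show c.1 = 0 ∨ c.1 = 1 by omega) with e | e <;> simp [e]
  · rw [hb, pick_true] at h
    have h1 := wEq_spec h
    rw [prodW_nil] at h1
    have hc : 2 ≤ c.1 := Nat.le_of_ble_eq_true hb
    rw [if_neg (by omega), if_neg (by omega), h1, D.q_eq (a := 1) (map_one τ), mul_one]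
    exact ⟨mul_one 1, by simp⟩

theorem triple_spec {E : Type} [Group E] {τ : E →* He} (D : Double τ) {us : List (List ℕ)}
    {cs : List (ℕ × List ℕ)} (h : tripleOK us cs = true) (l : List ℕ)
    (hl : (List.range 7).map (fun i => (cs.getD i (2, [])).1) = l) (q : ℕ → E)
    (hq : ∀ c, q c = if c = 0 then D.q (prodW gen (mulRep 0)) else
      if c = 1 then D.q (prodW gen (mulRep 1)) else 1) :
    q (l.getD 0 0) = q (l.getD 1 0) * q (l.getD 2 0) * q (l.getD 3 0) *
      (q (l.getD 4 0) * q (l.getD 5 0) * q (l.getD 6 0)) := by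
  simp only [tripleOK, Bool.and_eq_true] at h
  obtain ⟨⟨⟨⟨⟨⟨⟨⟨⟨⟨⟨⟨e1, e2⟩, e3⟩, e4⟩, e5⟩, e6⟩, f0⟩, f1⟩, f2⟩, f3⟩, f4⟩, f5⟩, f6⟩ := h
  have g1 := wEq_spec e1
  have g2 := wEq_spec e2
  have g3 := wEq_spec e3
  have g4 := wEq_spec e4
  have g5 := wEq_spec e5
  have g6 := wEq_spec e6
  simp only [prodW_append, prodW_nil] at g1 g2 g3 g4 g5 g6
  have := D.q_seven g1 g2 g3 g4 g5 g6
  have k0 := (qOK_spec D f0).2
  have k1 := (qOK_spec D f1).2
  have k2 := (qOK_spec D f2).2
  have k3 := (qOK_spec D f3).2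
  have k4 := (qOK_spec D f4).2
  have k5 := (qOK_spec D f5).2
  have k6 := (qOK_spec D f6).2
  simp only [prodW_append, ← hq] at k0 k1 k2 k3 k4 k5 k6
  rw [k0, k1, k2, k3, k4, k5, k6] at this
  subst hl
  simpa using this

theorem sqOne_all {E : Type} [Group E] {τ : E →* He} (D : Double τ) {c : ℕ × List ℕ} {u : List ℕ}
    (h : qOK c u = true) : prodW gen u * prodW gen u = 1 ∧ SqOne τ (prodW gen u) := by
  obtain ⟨hsq, hq⟩ := qOK_spec D h
  refine ⟨hsq, D.sqOne_iff.mpr ?_⟩
  set q : ℕ → E := fun c => if c = 0 then D.q (prodW gen (mulRep 0)) else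
    if c = 1 then D.q (prodW gen (mulRep 1)) else 1
  have hA := triple_spec D mulTriple0_ok.1 _ mulTriple0_ok.2 q fun _ => rfl
  have hB := triple_spec D mulTriple1_ok.1 _ mulTriple1_ok.2 q fun _ => rfl
  simp only [List.getD_cons_zero, List.getD_cons_succ] at hA hB
  have hk : ∀ i, i = 0 ∨ i = 1 → q i * q i = 1 := fun i hi => by
    obtain ⟨a, ha⟩ := D.surj (prodW gen (mulRep i))
    have hr : q i = a * a := by
      rcases hi with rfl | rfl <;> simp [q, D.q_eq ha]
    have hm : prodW gen (mulRep i) * prodW gen (mulRep i) = 1 := by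
      have hh : ∀ i, i = 0 ∨ i = 1 → wEq (mulRep i ++ mulRep i) [] = true := by
        rintro i (rfl | rfl) <;> decide +kernel
      have := wEq_spec (hh i hi)
      simpa [prodW_append] using this
    rw [hr]
    exact D.sq (MonoidHom.mem_ker.mpr (by rw [map_mul, ha, hm]))
  have h0 := hk 0 (Or.inl rfl)
  have h1 := hk 1 (Or.inr rfl)
  have hA1 : q 0 = 1 := by
    rw [h1, one_mul, ← mul_assoc, ← mul_assoc, h0, one_mul] at hA
    exact mul_left_cancel (a := q 1) (by rw [mul_one]; exact hA.symm)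
  have hB1 : q 1 = 1 := by
    simp only [hA1, h1, one_mul, mul_one] at hB
    exact hB.symm
  rw [hq]
  simp only [q, if_pos, one_ne_zero, if_false] at hA1 hB1
  split_ifs <;> first | exact hA1 | exact hB1 | rfl

theorem prodW_mulExp (v : List ℕ) : prodW gen (mulExp v) = (v.map fun j => prodW gen (mulGen j)).prod := by
  induction v with
  | nil => simp [mulExp]
  | cons j v ih =>
    rw [show mulExp (j :: v) = mulGen j ++ mulExp v from rfl, prodW_append, ih, List.map_cons,
      List.prod_cons]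

theorem sylRow_all (t : ℕ) (ht : t < 1024) : sylRow t = true := by
  by_cases h0 : t < 256
  · exact allUp_spec mulRows0 t (by omega) (by norm_num; omega)
  by_cases h1 : t < 512
  · exact allUp_spec mulRows1 t (by omega) (by norm_num; omega)
  by_cases h2 : t < 768
  · exact allUp_spec mulRows2 t (by omega) (by norm_num; omega)
  exact allUp_spec mulRows3 t (by omega) (by norm_num; omega)

theorem phi_key : ∀ t < 1024, ∀ j, ∀ hj : j < 5,
    (rho (mulTab.phi (fun j => prodW gen (mulGen j)) t) ⟨centBases.getD j 0, bases_lt hj⟩ : ℕ) =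
      mulKey t j := by
  intro t
  induction t using Nat.strong_induction_on with
  | _ t ih =>
    intro ht j hj
    have h := sylRow_all t ht
    simp only [sylRow, Bool.and_eq_true, List.all_eq_true, List.mem_range] at h
    have hrow := h.2 j hj
    cases t with
    | zero =>
      rw [show Nat.beq 0 0 = true from rfl, pick_true] at hrow
      rw [InvTable.Tab.phi_zero, map_one, Equiv.Perm.one_apply]
      exact (Nat.eq_of_beq_eq_true hrow).symm
    | succ n =>
      rw [show Nat.beq (n + 1) 0 = false from rfl, pick_false, Bool.and_eq_true, ltB_iff] at hrow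
      rw [InvTable.Tab.phi, if_pos ⟨Nat.succ_pos n, hrow.1⟩, map_mul, Equiv.Perm.mul_apply]
      have hlt : lt7 (mulGen (mulTree.getD (n + 1 - 1) (0, 0)).1) = true := by
        by_cases hg : (mulTree.getD (n + 1 - 1) (0, 0)).1 < 4
        · have := List.all_eq_true.mp mulGens_ok _ (List.mem_range.mpr hg)
          simp only [Bool.and_eq_true, wEq, lt7, List.all_append] at this
          exact this.1.1.1.1
        · have : mulGens.length ≤ (mulTree.getD (n + 1 - 1) (0, 0)).1 := by
            show 4 ≤ _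
            omega
          rw [mulGen, List.getD_eq_default _ _ this]
          rfl
      rw [show mulTab.tree = mulTree from rfl, rho_act hlt, ih _ hrow.1 (by omega) j hj]
      exact Nat.eq_of_beq_eq_true hrow.2

theorem phi_inj : ∀ s t, s < 1024 → t < 1024 →
    mulTab.phi (fun j => prodW gen (mulGen j)) s = mulTab.phi (fun j => prodW gen (mulGen j)) t →
    s = t := by
  intro s t hs ht e
  have hk : ∀ j < 5, mulKey s j = mulKey t j := fun j hj => by
    rw [← phi_key s hs j hj, ← phi_key t ht j hj, e]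
  have hrow : ∀ r < 1024, mulKeys.at' 60 r < 1152921504606846976 ∧
      mulSrt.at' 11 (mulRank.at' 11 r) = r ∧ mulRank.at' 11 r < 1024 ∧
      (r + 1 < 1024 → mulKeys.at' 60 (mulSrt.at' 11 r) < mulKeys.at' 60 (mulSrt.at' 11 (r + 1))) := by
    intro r hr
    have h := sylRow_all r hr
    simp only [sylRow, Bool.and_eq_true] at h
    refine ⟨Nat.le_of_ble_eq_true h.1.1.1.1, Nat.eq_of_beq_eq_true h.1.1.1.2, ltB_iff.mp h.1.1.2,
      fun hr' => ?_⟩
    have := h.1.2
    rw [show Nat.beq r 1023 = false from Bool.eq_false_iff.mpr fun e => by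
      have := Nat.eq_of_beq_eq_true e; omega, pick_false] at this
    exact ltB_iff.mp this
  have hkey : mulKeys.at' 60 s = mulKeys.at' 60 t := by
    have k0 := hk 0 (by norm_num)
    have k1 := hk 1 (by norm_num)
    have k2 := hk 2 (by norm_num)
    have k3 := hk 3 (by norm_num)
    have k4 := hk 4 (by norm_num)
    have b1 := (hrow s hs).1
    have b2 := (hrow t ht).1
    have key : ∀ r i, mulKey r i = mulKeys.at' 60 r / 2 ^ (12 * i) % 4096 := fun r i => by
      show (mulKeys.at' 60 r >>> (12 * i)) % 4096 = _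
      rw [Nat.shiftRight_eq_div_pow]
    simp only [key] at k0 k1 k2 k3 k4
    norm_num at k0 k1 k2 k3 k4
    omega
  have hlt : ∀ b a, a < b → b < 1024 →
      mulKeys.at' 60 (mulSrt.at' 11 a) < mulKeys.at' 60 (mulSrt.at' 11 b) := by
    intro b
    induction b with
    | zero => intro a ha; omega
    | succ b ih =>
      intro a ha hb
      have h := (hrow b (by omega)).2.2.2 hb
      rcases Nat.lt_or_ge a b with hab | hab
      · exact lt_trans (ih a hab (by omega)) h
      · rwa [show a = b by omega]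
  obtain ⟨-, ss, rs, -⟩ := hrow s hs
  obtain ⟨-, st, rt, -⟩ := hrow t ht
  rcases Nat.lt_trichotomy (mulRank.at' 11 s) (mulRank.at' 11 t) with h | h | h
  · have := hlt _ _ h rt; rw [ss, st] at this; omega
  · rw [← ss, h, st]
  · have := hlt _ _ h rs; rw [ss, st] at this; omega

theorem two_false {E : Type} [Group E] [Finite E] {τ : E →* He} (hτ : Cfsg.IsStemExtension τ)
    (hk : Nat.card τ.ker = 2) : False := by
  have D := double_of_card_two hτ hk
  refine no_double hτ hk mulTab [] (fun j => prodW gen (mulGen j)) mulTab_ok ?_ ?_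
    (fun j hj => absurd hj List.not_mem_nil) (fun i i' hi hi' => phi_inj i i' hi hi') ?_
  · intro j hj
    have h := List.all_eq_true.mp mulGens_ok j (List.mem_range.mpr hj)
    rw [Bool.and_eq_true] at h
    exact sqOne_all D h.2
  · intro w hw
    obtain ⟨i, hi, rfl⟩ := List.getElem_of_mem (show w ∈ mulWords from hw)
    have h := List.all_eq_true.mp mulWords_ok i (List.mem_range.mpr hi)
    simp only [Bool.and_eq_true, beq_iff_eq, List.getD_eq_getElem _ _ hi] at h
    refine Or.inl ⟨_, h.1.1, ?_⟩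
    rw [← prodW_mulExp]
    exact sqOne_all D h.2
  · intro m hm
    rw [card_He, show mulTab.N = 1024 from rfl] at hm
    omega

/-- no stem extension has a kernel of prime order -/
theorem no_stem_He (ℓ : ℕ) (hℓ : ℓ.Prime) (E : Type) [Group E] [Finite E] (τ : E →* He)
    (hτ : Cfsg.IsStemExtension τ) (hk : Nat.card τ.ker = ℓ) : False := by
  by_cases h2 : ℓ = 2
  · subst h2; exact two_false hτ hk
  by_cases h3 : ℓ = 3
  · subst h3; exact extra_false hℓ three_ok (by norm_num) (by norm_num) (by norm_num) hτ hk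
  by_cases h5 : ℓ = 5
  · subst h5; exact five_false hτ hk
  by_cases h7 : ℓ = 7
  · subst h7; exact extra_false hℓ seven_ok (by norm_num) (by norm_num) (by norm_num) hτ hk
  have hsq : ¬ ℓ ^ 2 ∣ Nat.card He := by
    rw [card_He]
    intro hd
    have h1 : ℓ ∣ 2 ^ 10 * 3 ^ 3 * 5 ^ 2 * 7 ^ 3 * 17 :=
      (dvd_pow_self ℓ two_ne_zero).trans (by simpa using hd)
    simp only [Nat.Prime.dvd_mul hℓ] at h1
    rcases h1 with (((h | h) | h) | h) | h
    · exact h2 ((Nat.prime_dvd_prime_iff_eq hℓ Nat.prime_two).1 (hℓ.dvd_of_dvd_pow h))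
    · exact h3 ((Nat.prime_dvd_prime_iff_eq hℓ Nat.prime_three).1 (hℓ.dvd_of_dvd_pow h))
    · exact h5 ((Nat.prime_dvd_prime_iff_eq hℓ Nat.prime_five).1 (hℓ.dvd_of_dvd_pow h))
    · exact h7 ((Nat.prime_dvd_prime_iff_eq hℓ (by norm_num)).1 (hℓ.dvd_of_dvd_pow h))
    · have := (Nat.prime_dvd_prime_iff_eq hℓ (by norm_num)).1 h
      subst this
      norm_num at hd
  obtain ⟨U, hU, hUc⟩ := CfsgLib.Golay.Mult.local_of_sq_not_dvd hℓ hsq
  exact no_stem_of_local hℓ hτ hk U hU fun z hz hzd hzo => hUc E τ hτ.1 hτ.2.1 z hz hzd hzo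

theorem multiplier_He : Cfsg.HasCyclicSchurMultiplier He 1 :=
  trivial_multiplier_of_prime fun ℓ hℓ E _ _ τ hτ hk => no_stem_He ℓ hℓ E τ hτ hk

end CfsgLib.HePres
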