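import Cfsg.Agent.Lib.HePres.Sp4
import Cfsg.Agent.Lib.HePres.DataSub
import Cfsg.Agent.Lib.HePres.DataChainN
import Cfsg.Agent.Lib.HePres.DataChainH
import Cfsg.Agent.Lib.HePres.SuborbitA

/-!
Checks for the identification of the point stabilizer with `Sp₄(4):2`.
-/

set_option autoImplicit false
set_option Elab.async false
set_option maxHeartbeats 4000000

namespace CfsgLib.HePres

open CfsgLib.CosetEnum Matrix

/-- number of a coordinate -/
def ix4 : I4 → ℕ
  | .inl k => k.val
  | .inr k => 2 + k.val

/-- a matrix of codes -/
def mat4 (l : List ℕ) : Matrix I4 I4 K4 := fun i j => ⟨Fin.ofNat 4 (l.getD (4 * ix4 i + ix4 j) 0)⟩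

/-- the label of a point -/
def labV (x : ℕ) : I4 → K4 := fun i => ⟨Fin.ofNat 4 (labTab >>> (8 * x + 2 * ix4 i))⟩

/-- the points of the suborbit -/
noncomputable def maskPts : List ℕ := (List.range 2058).filter fun x => subMask0.testBit x

/-- the index of a coordinate -/
def allI4 : List I4 := [.inl 0, .inl 1, .inr 0, .inr 1]

/-- comparing labels -/
def labEq (a b : I4 → K4) : Bool := allI4.all fun j => decide (a j = b j)

theorem mem_allI4 : ∀ i : I4, i ∈ allI4 := fun i => by
  rcases i with k | k <;> fin_cases k <;> simp [allI4]

theorem labEq_iff {a b : I4 → K4} : labEq a b = true ↔ a = b := by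
  simp only [labEq, List.all_eq_true, decide_eq_true_eq]
  exact ⟨fun h => funext fun i => h i (mem_allI4 i), fun h i _ => by rw [h]⟩

theorem matXY : (mat4 matXe)ᵀ * J (Fin 2) K4 * mat4 matXe = J (Fin 2) K4 ∧
    mat4 matXe * mat4 matXi = 1 ∧
    (mat4 matYe)ᵀ * J (Fin 2) K4 * mat4 matYe = J (Fin 2) K4 ∧
    mat4 matYe * mat4 matYi = 1 := by decide +kernel

theorem stepX : (maskPts.all fun x => labEq (pull (mat4 matXi) (labV x))
    (labV (certA.run x (certA.revInv wordX)))) = true := by decide +kernel

theorem stepY : (maskPts.all fun x => labEq (pull (mat4 matYi) (labV x))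
    (labV (certA.run x (certA.revInv wordY)))) = true := by decide +kernel

theorem lab_inj : (maskPts.all fun x => maskPts.all fun y =>
    Nat.beq x y || !labEq (labV x) (labV y)) = true := by decide +kernel

theorem lab_span : (allI4.all fun k => maskPts.any fun x => maskPts.any fun y =>
    allI4.all fun j => decide (labV x j = labV y j) == decide (j ≠ k)) = true := by decide +kernel

theorem wordX_eq : wordX = certA.subs.getD 1 [] ++ (certA.subs.getD 2 [] ++
    (certA.subs.getD 4 [] ++ certA.subs.getD 6 [])) := by decide +kernel

theorem wordY_eq : wordY = certA.subs.getD 0 [] := by decide +kernel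

theorem chainN_ok : chainOK certA levelsN = true := by decide +kernel

theorem chainN_size : chainSize certA levelsN = 979200 := by decide +kernel

theorem chainH_ok : chainOK certA levelsH = true := by decide +kernel

theorem chainH_size : chainSize certA levelsH = 4030387200 := by decide +kernel

theorem chainH_bases : (levelsH.all fun l => Nat.beq l.base 0 || subMask0.testBit l.base) = true := by
  decide +kernel

end CfsgLib.HePres
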