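import Cfsg.Agent.Lib.HePres.Main
import Cfsg.Agent.Lib.HePres.SubCheck
import Cfsg.Agent.Lib.CosetEnum.Bases
import Cfsg.Agent.Lib.Classical.SympOrder

/-!
The subgroup of index 2058 of the presented Held group is `Sp₄(4):2`.
-/

set_option autoImplicit false

namespace CfsgLib.HePres

open CfsgLib.CosetEnum Cfsg.Spor Matrix

theorem mem_maskPts {x : ℕ} : x ∈ maskPts ↔ x < 2058 ∧ subMask0.testBit x = true := by
  simp [maskPts]

theorem certA_N : certA.N = 2058 := rfl

theorem card_subA : Nat.card subA = 1958400 := by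
  have h := subA.index_mul_card
  rw [setupA.index_eq, card_faithful.1, certA_N] at h
  omega

theorem card_Sp44 : Nat.card Sp44 = 979200 := by
  rw [CfsgLib.Classical.SympTrans.card_symplectic, Nat.card_eq_fintype_card, K4.card_eq]
  norm_num [Finset.prod_range_succ]

/-- a point of the suborbit is moved within it -/
theorem mask_move (h : subA) (x : Fin certA.N) :
    subMask0.testBit (rho (h : He) x : ℕ) = subMask0.testBit (x : ℕ) :=
  setupA.orbit_sub subMask0_orbit h.2 x

/-- pairs acting compatibly on the labelled suborbit -/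
def pairsR : Subgroup (subA × Sp44) where
  carrier := {q | ∀ x : Fin certA.N, subMask0.testBit (x : ℕ) = true →
    actQ q.2 (labV x) = labV (rho (q.1 : He) x : ℕ)}
  one_mem' := fun x _ => by simp [actQ_one]
  mul_mem' := by
    intro a b ha hb x hx
    show actQ (a.2 * b.2) _ = _
    rw [actQ_mul, hb x hx, ha _ (by rw [mask_move]; exact hx)]
    show _ = labV (rho ((a.1 : He) * (b.1 : He)) x : ℕ)
    rw [map_mul, Equiv.Perm.mul_apply]
  inv_mem' := by
    intro a ha x hx
    show actQ a.2⁻¹ _ = labV (rho ((a.1 : He)⁻¹) x : ℕ)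
    refine actQ_inv ?_
    have hy := ha ((rho ((a.1 : He)⁻¹)) x) (by
      have := mask_move a.1 ((rho ((a.1 : He)⁻¹)) x)
      rw [← Equiv.Perm.mul_apply, ← map_mul, mul_inv_cancel, map_one, Equiv.Perm.one_apply] at this
      rw [← this]; exact hx)
    rwa [← Equiv.Perm.mul_apply, ← map_mul, mul_inv_cancel, map_one, Equiv.Perm.one_apply] at hy

theorem lab_injective {x y : ℕ} (hx : x ∈ maskPts) (hy : y ∈ maskPts) (h : labV x = labV y) :
    x = y := by
  have := lab_inj
  simp only [List.all_eq_true, Bool.or_eq_true, Bool.not_eq_true'] at this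
  rcases this x hx y hy with e | e
  · exact Nat.eq_of_beq_eq_true e
  · rw [labEq_iff.mpr h] at e; cases e

theorem snd_eq_one {q : subA × Sp44} (hq : q ∈ pairsR) (h1 : q.1 = 1) : q.2 = 1 := by
  refine eq_one_of_fix (labV '' {x | x ∈ maskPts}) (fun k => ?_) ?_
  · have h := lab_span
    simp only [List.all_eq_true, List.any_eq_true, beq_iff_eq, decide_eq_decide] at h
    obtain ⟨x, hx, y, hy, hxy⟩ := h k (mem_allI4 k)
    exact ⟨_, ⟨x, hx, rfl⟩, _, ⟨y, hy, rfl⟩,
      fun e => ((hxy k (mem_allI4 k)).mp e) rfl, fun j hj => (hxy j (mem_allI4 j)).mpr hj⟩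
  · rintro a ⟨x, hx, rfl⟩
    rw [Set.mem_ofPred_eq] at hx
    obtain ⟨hlt, hm⟩ := mem_maskPts.mp hx
    have := hq ⟨x, hlt⟩ hm
    simpa [h1] using this

theorem fst_eq_one {q : subA × Sp44} (hq : q ∈ pairsR) (h2 : q.2 = 1) : q.1 = 1 := by
  refine Subtype.ext ?_
  refine setupA.eq_one_of_fix_bases chainH_ok (chainH_size.trans card_faithful.1.symm) ?_
  intro l hl hb
  have h := chainH_bases
  simp only [List.all_eq_true, Bool.or_eq_true] at h
  rcases h l hl with h0 | hm
  · have e : (⟨l.base, hb⟩ : Fin certA.N) = setupA.base := Fin.ext (Nat.eq_of_beq_eq_true h0)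
    rw [e]
    exact setupA.rho_fix q.1.2
  · have h1 := hq ⟨l.base, hb⟩ hm
    rw [h2, actQ_one] at h1
    refine Fin.ext (lab_injective ?_ ?_ h1).symm
    · exact mem_maskPts.mpr ⟨by have := hb; rw [certA_N] at this; exact this, hm⟩
    · refine mem_maskPts.mpr ⟨?_, by rw [mask_move q.1]; exact hm⟩
      exact lt_of_lt_of_eq (Fin.isLt _) certA_N

theorem fst_injective : Function.Injective ((MonoidHom.fst subA Sp44).comp pairsR.subtype) :=
  (injective_iff_map_eq_one _).mpr fun q h =>
    Subtype.ext (Prod.ext h (snd_eq_one q.2 h))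

theorem snd_injective : Function.Injective ((MonoidHom.snd subA Sp44).comp pairsR.subtype) :=
  (injective_iff_map_eq_one _).mpr fun q h =>
    Subtype.ext (Prod.ext (fst_eq_one q.2 h) h)

/-- the normal subgroup of index two -/
def subN : Subgroup subA := ((MonoidHom.fst subA Sp44).comp pairsR.subtype).range

/-- `subN` as elements of the group -/
noncomputable def subN' : Subgroup He := subN.map subA.subtype

theorem mem_subA_of_sub {i : ℕ} (hi : i < 7) : prodW gen (certA.subs.getD i []) ∈ subA := by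
  have hl : i < certA.subs.length := lt_of_lt_of_eq hi rfl
  rw [List.getD_eq_getElem _ _ hl]
  exact Subgroup.subset_closure ⟨_, List.getElem_mem hl, rfl⟩

theorem wordX_mem : prodW gen wordX ∈ subA := by
  rw [wordX_eq, prodW_append, prodW_append, prodW_append]
  exact mul_mem (mem_subA_of_sub (by norm_num)) (mul_mem (mem_subA_of_sub (by norm_num))
    (mul_mem (mem_subA_of_sub (by norm_num)) (mem_subA_of_sub (by norm_num))))

theorem wordY_mem : prodW gen wordY ∈ subA := by
  rw [wordY_eq]
  exact mem_subA_of_sub (by norm_num)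

theorem pair_mem {w : List ℕ} (hw : prodW gen w ∈ subA) (hlt : ∀ g ∈ w, g < certA.K)
    {Me Mi : Matrix I4 I4 K4} (h1 : Meᵀ * J (Fin 2) K4 * Me = J (Fin 2) K4)
    (h2 : Me * Mi = 1)
    (hstep : (maskPts.all fun x => labEq (pull Mi (labV x))
      (labV (certA.run x (certA.revInv w)))) = true) :
    prodW gen w ∈ subN' := by
  let s : Sp44 := ⟨Me, SymplecticGroup.mem_iff'.mpr h1⟩
  have hi : ((s⁻¹ : Sp44) : Matrix I4 I4 K4) = Mi := by
    rw [SymplecticGroup.coe_inv']
    exact Matrix.inv_eq_right_inv h2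
  have hmem : (⟨_, hw⟩, s) ∈ pairsR := by
    intro x hx
    show actQ s _ = _
    rw [actQ, hi]
    simp only [List.all_eq_true] at hstep
    rw [labEq_iff.mp (hstep x (mem_maskPts.mpr ⟨lt_of_lt_of_eq x.2 certA_N, hx⟩)),
      setupA.rho_prodW hlt]
  exact ⟨⟨_, hw⟩, ⟨⟨_, hmem⟩, rfl⟩, rfl⟩

theorem expW_mem : ∀ w, prodW gen (expW w) ∈ subN'
  | [] => one_mem _
  | 0 :: w => by
    rw [expW, prodW_append]
    exact mul_mem (pair_mem wordX_mem (by decide +kernel) matXY.1 matXY.2.1 stepX) (expW_mem w)
  | 1 :: w => by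
    rw [expW, prodW_append]
    exact mul_mem (pair_mem wordY_mem (by decide +kernel) matXY.2.2.1 matXY.2.2.2 stepY) (expW_mem w)
  | (n + 2) :: w => by
    rw [expW, prodW_append]
    · refine mul_mem ?_ (expW_mem w)
      have e : wordX.reverse = certA.revInv wordX := by decide +kernel
      rw [e, setupA.model.revInv_eq]
      exact inv_mem (pair_mem wordX_mem (by decide +kernel) matXY.1 matXY.2.1 stepX)
    all_goals omega

theorem levelsN_words : ∀ v ∈ chainWords levelsN, ∃ w, v = expW w := by
  intro v hv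
  simp only [levelsN, chainWords, List.flatMap_cons, List.flatMap_nil, levelsNLevel0, levelsNLevel1,
    levelsNLevel2, levelsNLevel3, List.mem_append, List.not_mem_nil, or_false, List.mem_map] at hv
  rcases hv with ⟨w, -, rfl⟩ | ⟨w, -, rfl⟩ | ⟨w, -, rfl⟩ | ⟨w, -, rfl⟩ <;> exact ⟨w, rfl⟩

theorem card_subN : Nat.card subN = 979200 := by
  have up : Nat.card subN ≤ 979200 := by
    rw [← card_Sp44, subN, ← Nat.card_congr (MonoidHom.ofInjective fst_injective).toEquiv]
    exact Nat.card_le_card_of_injective _ snd_injective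
  have low : chainGroup certA_complete certA_action levelsN ≤ subN'.map rho := by
    refine (Subgroup.closure_le _).mpr ?_
    rintro y ⟨v, hv, rfl⟩
    obtain ⟨w, rfl⟩ := levelsN_words v hv
    refine ⟨prodW gen (expW w), expW_mem w, ?_⟩
    rw [map_prodW]
    exact prodW_congr fun g hg => setupA.rho_gen g (chainWords_lt chainN_ok _ hv g hg)
  have h1 := (chainSize_le certA_complete certA_action chainN_ok).trans (Subgroup.card_le_of_le low)
  rw [chainN_size] at h1
  have h2 : Nat.card (subN'.map rho) ≤ Nat.card subN := by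
    rw [subN', Subgroup.map_map]
    exact Nat.card_le_card_of_surjective (fun x : subN => ⟨_, x.1, x.2, rfl⟩)
      (by rintro ⟨_, x, hx, rfl⟩; exact ⟨⟨x, hx⟩, rfl⟩)
  omega

theorem subN_index : subN.index = 2 := by
  have h := subN.index_mul_card
  rw [card_subN, card_subA] at h
  exact Nat.eq_of_mul_eq_mul_right (by norm_num : 0 < 979200) (h.trans (by norm_num))

instance subN_normal : subN.Normal := Subgroup.normal_of_index_eq_two subN_index

theorem subN_iso : Nonempty (subN ≃* Sp44) := by
  have hb : Function.Bijective ((MonoidHom.snd subA Sp44).comp pairsR.subtype) := by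
    have := Fintype.ofFinite pairsR
    have := Fintype.ofFinite Sp44
    rw [Fintype.bijective_iff_injective_and_card]
    refine ⟨snd_injective, ?_⟩
    rw [← Nat.card_eq_fintype_card, ← Nat.card_eq_fintype_card, card_Sp44, ← card_subN]
    exact Nat.card_congr (MonoidHom.ofInjective fst_injective).toEquiv
  exact ⟨(MonoidHom.ofInjective fst_injective).symm.trans (MulEquiv.ofBijective _ hb)⟩

theorem subA_structure : ∃ (N : Subgroup subA) (K : Type) (_ : Field K) (_ : Fintype K),
    N.Normal ∧ N.index = 2 ∧ Fintype.card K = 4 ∧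
      Nonempty (N ≃* symplecticGroup (Fin 2) K) :=
  ⟨subN, K4, inferInstance, inferInstance, subN_normal, subN_index, K4.card_eq, subN_iso⟩

theorem permutation_realization : ∃ H : Subgroup (Equiv.Perm (Fin 2058)), Cfsg.IsHe H ∧
    MulAction.IsPretransitive H (Fin 2058) ∧
    ∃ (F : Type) (_ : Field F) (_ : Fintype F), Fintype.card F = 4 ∧
      ∃ N : Subgroup (MulAction.stabilizer H (0 : Fin 2058)), N.index = 2 ∧
        Nonempty (N ≃* symplecticGroup (Fin 2) F) := by
  let r : He →* Equiv.Perm (Fin 2058) := rho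
  let e : He ≃* r.range := MonoidHom.ofInjective (f := r) card_faithful.2
  have tr : ∀ i : Fin 2058, ∃ x : He, r x 0 = i := fun i => setupA.pretransitive i
  refine ⟨r.range, ⟨e.isSimpleGroup_congr.mp isHe.1, ?_⟩, ⟨fun a b => ?_⟩,
    K4, inferInstance, inferInstance, K4.card_eq, ?_⟩
  · rw [← Nat.card_congr e.toEquiv, card_faithful.1]
  · obtain ⟨x, hx⟩ := tr a
    obtain ⟨y, hy⟩ := tr b
    refine ⟨⟨r (y * x⁻¹), ⟨_, rfl⟩⟩, ?_⟩
    show r (y * x⁻¹) a = b
    rw [← hx, ← hy, map_mul, map_inv, Equiv.Perm.mul_apply, Equiv.Perm.inv_def,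
      Equiv.symm_apply_apply]
  · have hst : ∀ x : He, e x ∈ MulAction.stabilizer r.range (0 : Fin 2058) ↔ x ∈ subA := fun x =>
      (setupA.mem_iff x).symm
    let f : subA →* MulAction.stabilizer r.range (0 : Fin 2058) :=
      (e.toMonoidHom.comp subA.subtype).codRestrict _ fun x => (hst x).mpr x.2
    have hf : Function.Bijective f := by
      refine ⟨fun a b h => Subtype.ext (e.injective (congrArg Subtype.val h)), fun y => ?_⟩
      refine ⟨⟨e.symm y.1, (hst _).mp (by rw [MulEquiv.apply_symm_apply]; exact y.2)⟩, ?_⟩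
      exact Subtype.ext (e.apply_symm_apply _)
    refine ⟨subN.map f, ?_, ?_⟩
    · rw [Subgroup.index_map_of_bijective hf, subN_index]
    · obtain ⟨φ⟩ := subN_iso
      exact ⟨(Subgroup.equivMapOfInjective subN f hf.1).symm.trans φ⟩

end CfsgLib.HePres
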